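import Mathlib

/-!
Upper bounds on the composition length, phrased through weakly increasing subnormal series that end
at the whole group: such a series has at most `m` proper steps.
-/

set_option autoImplicit false
set_option linter.unusedSectionVars false
set_option linter.style.haveILetI false

namespace CfsgLib.CompLength

open Subgroup
open scoped ArithmeticFunction.Omega

universe u v w

variable {G : Type u} [Group G] {Q : Type v} [Group Q]

open Classical in
/-- The number of proper steps among the first `l` steps of a series. -/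
noncomputable def steps (H : ℕ → Subgroup G) (l : ℕ) : ℕ :=
  ((Finset.range l).filter fun i => H i ≠ H (i + 1)).card

/-- Every subnormal series ending at `G` has at most `m` proper steps. -/
def CLe (G : Type u) [Group G] (m : ℕ) : Prop :=
  ∀ (l : ℕ) (H : ℕ → Subgroup G), H l = ⊤ →
    (∀ i < l, H i ≤ H (i + 1) ∧ H (i + 1) ≤ normalizer (H i : Set G)) → steps H l ≤ m

open Classical in
theorem steps_succ (H : ℕ → Subgroup G) (l : ℕ) :
    steps H (l + 1) = steps H l + (if H l ≠ H (l + 1) then 1 else 0) := by
  classical
  simp only [steps, Finset.range_add_one, Finset.filter_insert]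
  split_ifs with h
  · rw [Finset.card_insert_of_notMem (by simp)]
  · rfl

theorem steps_mono {G' : Type w} [Group G'] (H : ℕ → Subgroup G) (H' : ℕ → Subgroup G') (l : ℕ)
    (h : ∀ i < l, H i ≠ H (i + 1) → H' i ≠ H' (i + 1)) : steps H l ≤ steps H' l := by
  classical
  refine Finset.card_le_card fun i hi => ?_
  simp only [Finset.mem_filter, Finset.mem_range] at hi ⊢
  exact ⟨hi.1, h i hi.1 hi.2⟩

theorem CLe.mono {m m' : ℕ} (h : CLe G m) (hm : m ≤ m') : CLe G m' :=
  fun l H ht hs => (h l H ht hs).trans hm

/-- Quotients. -/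
theorem CLe.of_surjective {m : ℕ} (h : CLe G m) (f : G →* Q) (hf : Function.Surjective f) :
    CLe Q m := by
  intro l H ht hs
  refine (steps_mono H (fun i => (H i).comap f) l fun i _ hne he => hne ?_).trans
    (h l (fun i => (H i).comap f) (by simp [ht]) fun i hi => ⟨comap_mono (hs i hi).1, ?_⟩)
  · exact comap_injective hf he
  · intro g hg
    refine mem_normalizer_iff.2 fun x => ?_
    have := mem_normalizer_iff.1 ((hs i hi).2 (mem_comap.1 hg)) (f x)
    simpa [mem_comap, map_mul, map_inv] using this

theorem CLe.congr {m : ℕ} (h : CLe G m) (e : G ≃* Q) : CLe Q m :=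
  h.of_surjective e.toMonoidHom e.surjective

/-- Normal subgroups. -/
theorem CLe.of_normal {m : ℕ} (h : CLe G m) (N : Subgroup G) [N.Normal] : CLe N m := by
  intro l H ht hs
  let H' : ℕ → Subgroup G := fun i => if i ≤ l then (H i).map N.subtype else ⊤
  have h1 : steps H l ≤ steps H' l := by
    refine steps_mono H H' l fun i hi hne he => hne ?_
    simp only [H', if_pos hi.le, if_pos (show i + 1 ≤ l by omega)] at he
    exact map_injective N.subtype_injective he
  refine h1.trans (le_trans ?_ (h (l + 1) H' (by simp [H']) fun i hi => ?_))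
  · rw [steps_succ]; exact Nat.le_add_right _ _
  rcases Nat.lt_or_ge i l with hil | hil
  · simp only [H', if_pos hil.le, if_pos (show i + 1 ≤ l by omega)]
    exact ⟨map_mono (hs i hil).1, (map_mono (hs i hil).2).trans (le_normalizer_map _)⟩
  · obtain rfl : i = l := by omega
    simp only [H', if_pos le_rfl, if_neg (show ¬ i + 1 ≤ i by omega), ht]
    rw [← MonoidHom.range_eq_map, range_subtype]
    exact ⟨le_top, (normalizer_eq_top_iff.2 inferInstance).ge⟩

/-- Extensions. -/
theorem CLe.extension {a b : ℕ} (f : G →* Q) (hf : Function.Surjective f) (ha : CLe f.ker a)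
    (hb : CLe Q b) : CLe G (a + b) := by
  classical
  intro l H ht hs
  have h2 := hb l (fun i => (H i).map f) (by simp [ht, map_top_of_surjective f hf]) fun i hi =>
    ⟨map_mono (hs i hi).1, (map_mono (hs i hi).2).trans (le_normalizer_map f)⟩
  have h1 := ha l (fun i => (H i).subgroupOf f.ker) (by simp [ht]) fun i hi => by
    refine ⟨comap_mono (hs i hi).1, fun g hg => mem_normalizer_iff.2 fun x => ?_⟩
    exact mem_normalizer_iff.1 ((hs i hi).2 (mem_comap.1 hg)) x
  refine le_trans ?_ (Nat.add_le_add h1 h2)
  unfold steps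
  refine (Finset.card_le_card ?_).trans (Finset.card_union_le _ _)
  intro i hi
  simp only [Finset.mem_filter, Finset.mem_union, Finset.mem_range] at hi ⊢
  by_contra hc
  simp only [not_or, not_and, not_not] at hc
  obtain ⟨e1, e2⟩ := hc
  refine hi.2 (le_antisymm (hs i hi.1).1 fun x hx => ?_)
  obtain ⟨y, hy, hyx⟩ : f x ∈ (H i).map f := by
    rw [e2 hi.1]; exact mem_map_of_mem f hx
  have hk : y⁻¹ * x ∈ f.ker := by rw [MonoidHom.mem_ker, map_mul, map_inv, hyx, inv_mul_cancel]
  have h3 : (⟨y⁻¹ * x, hk⟩ : f.ker) ∈ (H i).subgroupOf f.ker := by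
    rw [e1 hi.1, mem_subgroupOf]
    exact mul_mem (inv_mem ((hs i hi.1).1 hy)) hx
  have := mul_mem hy (mem_subgroupOf.1 h3)
  rwa [mul_inv_cancel_left] at this

/-- Extension by a normal subgroup. -/
theorem CLe.extension' {a b : ℕ} (N : Subgroup G) [N.Normal] (ha : CLe N a) (hb : CLe (G ⧸ N) b) :
    CLe G (a + b) := by
  refine CLe.extension (QuotientGroup.mk' N) (QuotientGroup.mk'_surjective N) ?_ hb
  exact ha.congr (MulEquiv.subgroupCongr (QuotientGroup.ker_mk' N).symm)

theorem CLe.of_subsingleton [Subsingleton G] : CLe G 0 := by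
  intro l H _ _
  simp only [steps, nonpos_iff_eq_zero, Finset.card_eq_zero, Finset.filter_eq_empty_iff]
  exact fun i _ hne => hne (Subsingleton.elim _ _)

/-- Simple groups. -/
theorem CLe.of_isSimple [IsSimpleGroup G] : CLe G 1 := by
  classical
  intro l
  induction l with
  | zero => simp [steps]
  | succ l ih =>
    intro H ht hs
    have hn : (H l).Normal := normalizer_eq_top_iff.1 (top_le_iff.1 (ht ▸ (hs l (by omega)).2))
    rw [steps_succ]
    rcases IsSimpleGroup.eq_bot_or_eq_top_of_normal _ hn with h | h
    · have h0 : steps H l = 0 := by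
        rw [steps, Finset.card_eq_zero, Finset.filter_eq_empty_iff]
        intro i hi
        rw [Finset.mem_range] at hi
        have hle : ∀ j, i ≤ j → j ≤ l → H i ≤ H j := by
          intro j hij
          induction j, hij using Nat.le_induction with
          | base => exact fun _ => le_rfl
          | succ j hij ihj => exact fun hj => (ihj (by omega)).trans (hs j (by omega)).1
        have hle' : ∀ j, i ≤ j → j ≤ l → H j ≤ H l := by
          intro j _ hj
          have : ∀ d, j + d ≤ l → H j ≤ H (j + d) := by
            intro d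
            induction d with
            | zero => exact fun _ => le_rfl
            | succ d ihd => exact fun hd => (ihd (by omega)).trans (hs (j + d) (by omega)).1
          simpa [Nat.add_sub_cancel' hj] using this (l - j) (by omega)
        push Not
        rw [le_bot_iff.1 ((hle' i le_rfl hi.le).trans h.le),
          le_bot_iff.1 ((hle' (i + 1) (by omega) hi).trans h.le)]
      rw [h0]; split_ifs <;> omega
    · have h1 := ih H h (fun i hi => hs i (by omega))
      rw [if_neg (by rw [h, ht]; simp)]
      omega

theorem cardFactors_le_log {n : ℕ} (hn : n ≠ 0) : Ω n ≤ Nat.log 2 n := by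
  refine Nat.le_log_of_pow_le (by norm_num) ?_
  rw [ArithmeticFunction.cardFactors_apply]
  calc 2 ^ n.primeFactorsList.length ≤ n.primeFactorsList.prod :=
        List.pow_card_le_prod _ _ fun x hx => (Nat.prime_of_mem_primeFactorsList hx).two_le
    _ = n := Nat.prod_primeFactorsList hn

theorem cardFactors_le_of_dvd {a b : ℕ} (hb : b ≠ 0) (h : a ∣ b) : Ω a ≤ Ω b := by
  obtain ⟨c, rfl⟩ := h
  rw [ArithmeticFunction.cardFactors_mul (left_ne_zero_of_mul hb) (right_ne_zero_of_mul hb)]
  omega

theorem one_le_cardFactors {n : ℕ} (hn : 2 ≤ n) : 1 ≤ Ω n := by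
  obtain ⟨p, hp, hpn⟩ := Nat.exists_prime_and_dvd (show n ≠ 1 by omega)
  exact (ArithmeticFunction.cardFactors_apply_prime hp).symm.le.trans
    (cardFactors_le_of_dvd (by omega) hpn)

/-- The number of prime factors of the order. -/
theorem CLe.of_card [Finite G] : CLe G (Ω (Nat.card G)) := by
  classical
  intro l H ht hs
  suffices h : ∀ j ≤ l, steps H j ≤ Ω (Nat.card (H j)) by
    have := h l le_rfl
    rwa [ht, card_top] at this
  intro j
  induction j with
  | zero => simp [steps]
  | succ j ih =>
    intro hj
    have hle := (hs j (by omega)).1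
    have hmul : Nat.card (H j) * (H j).relIndex (H (j + 1)) = Nat.card (H (j + 1)) := by
      rw [← relIndex_bot_left, ← relIndex_bot_left, relIndex_mul_relIndex _ _ _ bot_le hle]
    have hne : (H j).relIndex (H (j + 1)) ≠ 0 :=
      fun h => (Nat.card_pos (α := H (j + 1))).ne' (by rw [← hmul, h, mul_zero])
    rw [steps_succ, ← hmul, ArithmeticFunction.cardFactors_mul Nat.card_pos.ne' hne]
    have := ih (by omega)
    split_ifs with h
    · have h2 : 2 ≤ (H j).relIndex (H (j + 1)) := by
        refine (Nat.two_le_iff _).2 ⟨hne, fun h1 => h ?_⟩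
        exact le_antisymm hle (relIndex_eq_one.1 h1)
      have := one_le_cardFactors h2
      omega
    · omega

theorem CLe.of_card_dvd [Finite G] {n : ℕ} (hn : n ≠ 0) (h : Nat.card G ∣ n) : CLe G (Ω n) :=
  CLe.of_card.mono (cardFactors_le_of_dvd hn h)

/-- Factor a hom through another one with smaller kernel. -/
theorem CLe.of_ker_le {X : Type w} [Group X] {m : ℕ} (f₁ : X →* G) (f₂ : X →* Q)
    (hf₂ : Function.Surjective f₂) (hk : f₁.ker ≤ f₂.ker) (h : CLe f₁.range m) : CLe Q m := by
  refine (h.congr (QuotientGroup.quotientKerEquivRange f₁).symm).of_surjective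
    (QuotientGroup.lift f₁.ker f₂ hk) ?_
  intro q
  obtain ⟨x, rfl⟩ := hf₂ q
  exact ⟨QuotientGroup.mk x, rfl⟩

/-- A group whose image is bounded and kernel is bounded. -/
theorem CLe.of_range {a b : ℕ} (f : G →* Q) (ha : CLe f.ker a) (hb : CLe f.range b) :
    CLe G (a + b) := by
  refine CLe.extension f.rangeRestrict f.rangeRestrict_surjective ?_ hb
  exact ha.congr (MulEquiv.subgroupCongr (MonoidHom.ker_rangeRestrict f).symm)

end CfsgLib.CompLength
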