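import Cfsg.Agent.CompLength.Factors

/-!
Composition length of permutation groups: at most `4 (n - r) / 3` in degree `n` with `r` orbits.
-/

set_option autoImplicit false
set_option linter.unusedSectionVars false
set_option linter.style.haveILetI false

namespace CfsgLib.CompLength

open Subgroup MulAction CfsgLib.ExtPrim CfsgLib.MinimalNormal
open scoped ArithmeticFunction.Omega

/-- A subdirect product: bounded by the sum of the bounds of the projections. -/
theorem subdirect_bound {X : Type} [Group X] {ι : Type} (A : ι → Type) [∀ i, Group (A i)]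
    (φ : ∀ i, X →* A i) (hφ : ∀ i, (φ i).range.Normal) (b : ℕ) (hb : ∀ i, CLe (A i) b)
    (s : Finset ι) : ∀ (U : Subgroup X), U.Normal → (∀ x ∈ U, (∀ i ∈ s, φ i x = 1) → x = 1) →
      CLe U (s.card * b) := by
  classical
  induction s using Finset.induction_on with
  | empty =>
    intro U _ hU
    haveI : Subsingleton U := ⟨fun x y => Subtype.ext (by
      rw [hU x x.2 (by simp), hU y y.2 (by simp)])⟩
    exact CLe.of_subsingleton.mono (Nat.zero_le _)
  | insert i s hi ih =>
    intro U hU hker
    set f : U →* A i := (φ i).comp U.subtype with hf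
    have h1 : CLe f.ker (s.card * b) := by
      have hn : (U ⊓ (φ i).ker).Normal := inferInstance
      refine (ih _ hn fun x hx hs => hker x hx.1 fun j hj => ?_).congr
        { toFun := fun x => ⟨⟨x.1, x.2.1⟩, x.2.2⟩
          invFun := fun x => ⟨x.1.1, x.1.2, x.2⟩
          left_inv := fun _ => rfl
          right_inv := fun _ => rfl
          map_mul' := fun _ _ => rfl }
      rcases Finset.mem_insert.1 hj with rfl | hj
      · exact hx.2
      · exact hs j hj
    have h2 : CLe f.range b := by
      haveI := hφ i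
      have hle : f.range ≤ (φ i).range := by
        rintro _ ⟨x, rfl⟩; exact ⟨x, rfl⟩
      haveI : (f.range.subgroupOf (φ i).range).Normal := ⟨fun x hx y => by
        obtain ⟨u, hu⟩ := mem_subgroupOf.1 hx
        obtain ⟨z, hz⟩ := y.2
        refine mem_subgroupOf.2 ⟨⟨z * u * z⁻¹, hU.conj_mem u u.2 z⟩, ?_⟩
        show φ i (z * u * z⁻¹) = _
        rw [map_mul, map_mul, map_inv, show φ i (u : X) = (x : A i) from hu, hz]
        rfl⟩
      exact (((hb i).of_normal (φ i).range).of_normal (f.range.subgroupOf (φ i).range)).congr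
        (subgroupOfEquivOfLe hle)
    refine (CLe.of_range f h1 h2).mono ?_
    rw [Finset.card_insert_of_notMem hi, Nat.succ_mul]

section Socle

variable {G Ωs : Type} [Group G] [Finite G] [MulAction G Ωs] [Finite Ωs] [FaithfulSMul G Ωs]
  {N T : Subgroup G} [N.Normal] [IsPretransitive N Ωs]

/-- A semisimple socle with trivial centralizer and more than one factor. -/
theorem socle_case {n : ℕ} (hyp : Hyp n) (hn : Nat.card Ωs = n) (h : IsFactor N T) (hTN : T ≠ N)
    (hC : centralizer (N : Set G) = ⊥) (a : Ωs) : CLe G (4 * (n - 1) / 3) := by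
  classical
  set F := factors T with hF
  set k := Nat.card F with hkdef
  obtain ⟨hms, hs2, hcase⟩ := factor_count h hC a
  set m := Nat.card (Set.range fun x : Ωs => orbit T x)
  set s := (orbit T a).ncard with hs
  haveI : Nonempty (Set.range fun x : Ωs => orbit T x) := ⟨⟨_, a, rfl⟩⟩
  have hm0 : 0 < m := Nat.card_pos
  haveI : Nonempty F := ⟨⟨T, self_mem_factors T⟩⟩
  have hk2 : 2 ≤ k := by
    by_contra hlt
    refine hTN (le_antisymm h.le ?_)
    rw [← factors_iSup h]
    refine iSup_le fun U => ?_
    haveI : Subsingleton F := (Finite.card_le_one_iff_subsingleton).1 (by omega)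
    rw [Subsingleton.elim U ⟨T, self_mem_factors T⟩]
  -- the action on the factors
  have hFg : ∀ (g : G) (U : F), cj g (U : Subgroup G) ∈ F := fun g U => by
    obtain ⟨x, hx⟩ := U.2
    exact ⟨g * x, by rw [← hx, cj_cj]⟩
  let γ : G →* Equiv.Perm F :=
    { toFun := fun g =>
        { toFun := fun U => ⟨_, hFg g U⟩
          invFun := fun U => ⟨_, hFg g⁻¹ U⟩
          left_inv := fun U => Subtype.ext (by simp [cj_cj, cj_one])
          right_inv := fun U => Subtype.ext (by simp [cj_cj, cj_one]) }
      map_one' := Equiv.ext fun U => Subtype.ext (cj_one _)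
      map_mul' := fun g g' => Equiv.ext fun U => Subtype.ext (cj_cj _ _ _).symm }
  have hγ : ∀ g ∈ γ.ker, ∀ U : F, g ∈ normalizer ((U : Subgroup G) : Set G) := fun g hg U => by
    have h1 : cj g (U : Subgroup G) = U :=
      congrArg Subtype.val (DFunLike.congr_fun (MonoidHom.mem_ker.1 hg) U)
    refine mem_normalizer_iff.2 fun x => ⟨fun hx => h1 ▸ conj_mem_cj hx, fun hx => ?_⟩
    rw [← h1, mem_cj] at hx
    rwa [show g⁻¹ * (g * x * g⁻¹) * g = x by group] at hx
  rcases hcase with hkm | ⟨hk, T₂, hT₂, hne, hT₂F, htrans⟩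
  · -- the general case
    have hms' : m * s ≤ n := hn ▸ hms
    have h2k : k * s ≤ n := (Nat.mul_le_mul_right s hkm).trans hms'
    have hkn : k < n := by
      have h3 := Nat.mul_le_mul_left k hs2
      omega
    have hsn : s < n := by
      have h3 := Nat.mul_le_mul_right s hk2
      omega
    haveI : Fintype F := Fintype.ofFinite _
    have h1 : CLe γ.range (4 * (k - 1) / 3) := hyp.range_le γ hkn
    let φ : ∀ U : F, ↥γ.ker →* ↥(autHom (U : Subgroup G)).range := fun U =>
      (autHom (U : Subgroup G)).rangeRestrict.comp (inclusion fun g hg => hγ g hg U)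
    have h2 : CLe γ.ker ((Finset.univ (α := F)).card * (4 * (s - 1) / 3)) := by
      refine (subdirect_bound (fun U : F => ↥(autHom (U : Subgroup G)).range) φ (fun U => ?_) _
        (fun U => ?_) Finset.univ ⊤ inferInstance fun g _ hg => ?_).congr Subgroup.topEquiv
      · rw [MonoidHom.range_comp]
        refine Normal.map ?_ _ (MonoidHom.rangeRestrict_surjective _)
        exact ⟨fun x hx y => by
          obtain ⟨z, hz⟩ := hx
          refine ⟨⟨(y : G) * z * (y : G)⁻¹, (MonoidHom.normal_ker γ).conj_mem _ z.2 _⟩, ?_⟩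
          rw [← hz]
          rfl⟩
      · obtain ⟨g, hg⟩ := U.2
        have hU := factors_isFactor h U.2
        have hsize : (orbit (U : Subgroup G) (g • a)).ncard = s := by
          rw [hs]
          conv_rhs => rw [← Set.ncard_image_of_injective _ (MulAction.injective g)]
          congr 1
          rw [← hg]
          ext y
          constructor
          · rintro ⟨⟨u, hu⟩, rfl⟩
            refine ⟨(g⁻¹ * u * g) • a, ⟨⟨_, mem_cj.1 hu⟩, rfl⟩, ?_⟩
            show g • (g⁻¹ * u * g) • a = u • g • a
            rw [← mul_smul, ← mul_smul, show g * (g⁻¹ * u * g) = u * g by group]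
          · rintro ⟨_, ⟨⟨t, ht⟩, rfl⟩, rfl⟩
            refine ⟨⟨g * t * g⁻¹, conj_mem_cj ht⟩, ?_⟩
            show (g * t * g⁻¹) • g • a = g • t • a
            rw [← mul_smul, ← mul_smul, inv_mul_cancel_right]
        have h4 := aut_bound hyp hU (g • a) (hsize.symm ▸ hsn)
        rwa [hsize] at h4
      · refine Subtype.ext (mem_bot.1 (hC ▸ mem_centralizer_iff.2 fun x hx => ?_))
        have hx' : x ∈ ⨆ U : F, (U : Subgroup G) := by rw [hF, factors_iSup h]; exact hx
        refine mem_centralizer_singleton_iff.1 ((iSup_le fun U u hu => ?_ :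
          (⨆ U : F, (U : Subgroup G)) ≤ centralizer ({(g : G)} : Set G)) hx')
        have h3 := congrArg (fun q : ↥(autHom (U : Subgroup G)).range =>
          (((q : MulAut (U : Subgroup G)) ⟨u, hu⟩ : (U : Subgroup G)) : G)) (hg U (Finset.mem_univ U))
        have h5 : (g : G) * u * (g : G)⁻¹ = u := h3
        exact mem_centralizer_singleton_iff.2 (mul_inv_eq_iff_eq_mul.1 h5).symm
    refine (CLe.of_range γ h2 h1).mono ?_
    rw [Finset.card_univ, ← Nat.card_eq_fintype_card, ← hkdef, Nat.le_div_iff_mul_le (by norm_num)]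
    have h5 := Nat.mul_le_mul_left k (Nat.div_mul_le_self (4 * (s - 1)) 3)
    have h6 := Nat.div_mul_le_self (4 * (k - 1)) 3
    have h7 : k * (4 * (s - 1)) + 4 * (k - 1) ≤ 4 * (n - 1) := by
      obtain ⟨s', hs'⟩ : ∃ s', s = s' + 1 := ⟨s - 1, by omega⟩
      obtain ⟨k', hk'⟩ : ∃ k', k = k' + 1 := ⟨k - 1, by omega⟩
      have : (k' + 1) * (s' + 1) ≤ n := by rw [← hs', ← hk']; exact h2k
      rw [hs', hk', Nat.add_sub_cancel, Nat.add_sub_cancel]
      have h8 : (k' + 1) * (4 * s') + 4 * k' + 4 = 4 * ((k' + 1) * (s' + 1)) := by ring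
      omega
    rw [add_mul, mul_assoc]
    omega
  · -- two regular factors
    haveI := htrans T (self_mem_factors T)
    haveI := htrans T₂ hT₂F
    obtain ⟨g₂, hg₂⟩ := hT₂F
    have hc : T ≤ centralizer (T₂ : Set G) :=
      le_centralizer_iff.1 (((hg₂ ▸ cj_le_others (hg₂ ▸ hne)) : T₂ ≤ others T).trans h.others_comm)
    have hreg : stabilizer T a = ⊥ := CfsgLib.PermBasic.semiregular_of_le_centralizer T₂ T hc a
    haveI hker : (T.subgroupOf γ.ker).Normal := ⟨fun x hx y =>
      mem_subgroupOf.2 ((mem_normalizer_iff.1 (hγ y y.2 ⟨T, self_mem_factors T⟩) _).1 (mem_subgroupOf.1 hx))⟩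
    have hTker : T ≤ γ.ker := fun t ht => MonoidHom.mem_ker.2 (Equiv.ext fun U => Subtype.ext
      ((factors_isFactor h U.2).cj_eq_of_mem (h.le ht)))
    haveI : IsPretransitive (T.subgroupOf γ.ker) Ωs := ⟨fun x y => by
      obtain ⟨⟨t, ht⟩, htx⟩ := exists_smul_eq T x y
      exact ⟨⟨⟨t, hTker ht⟩, mem_subgroupOf.2 ht⟩, htx⟩⟩
    have hreg' : stabilizer (T.subgroupOf γ.ker) a = ⊥ := by
      rw [eq_bot_iff]
      intro x hx
      have h1 : (⟨((x : γ.ker) : G), mem_subgroupOf.1 x.2⟩ : T) ∈ stabilizer T a := mem_stabilizer_iff.2 hx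
      rw [hreg, mem_bot] at h1
      exact mem_bot.2 (Subtype.ext (Subtype.ext (congrArg Subtype.val h1 :)))
    haveI := h.simple
    have hnT : Nat.card T = Nat.card Ωs := CfsgLib.PermBasic.card_eq_of_regular T a hreg
    -- the degree
    have hsmall : 25 ≤ Nat.card Ωs ∨ Nat.card Ωs = 12 ∨ Nat.card Ωs = 18 ∨ Nat.card Ωs = 20 ∨
        Nat.card Ωs = 24 := by
      obtain ⟨p, hp, hp2⟩ := exists_sq_dvd T h.nonab
      have hnp : ∀ q e : ℕ, q.Prime → Nat.card T ≠ q ^ e := fun q e hq he => by
        haveI : Fact q.Prime := ⟨hq⟩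
        haveI : Nontrivial T := inferInstance
        haveI := (IsPGroup.of_card he).center_nontrivial
        rcases IsSimpleGroup.eq_bot_or_eq_top_of_normal (center T) inferInstance with hb | ht
        · exact (nontrivial_iff_ne_bot _).1 inferInstance hb
        · exact h.nonab ⟨⟨fun x y => mem_center_iff.1 (ht ▸ mem_top y : y ∈ center T) x⟩⟩
      rw [← hnT]
      by_contra hc'
      push Not at hc'
      obtain ⟨h25, h12, h18, h20, h24⟩ := hc'
      have hpos : 0 < Nat.card T := Nat.card_pos
      have hp5 : p < 5 := by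
        have := Nat.le_of_dvd hpos hp2
        by_contra
        nlinarith
      interval_cases p
      · exact absurd hp Nat.not_prime_zero
      · exact absurd hp Nat.not_prime_one
      · obtain ⟨c, hc⟩ := hp2
        have : c ≤ 6 := by omega
        interval_cases c <;> first
          | omega
          | exact hnp 2 2 Nat.prime_two (by omega)
          | exact hnp 2 3 Nat.prime_two (by omega)
          | exact hnp 2 4 Nat.prime_two (by omega)
      · obtain ⟨c, hc⟩ := hp2
        have : c ≤ 2 := by omega
        interval_cases c <;> first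
          | omega
          | exact hnp 3 2 Nat.prime_three (by omega)
      · exact absurd hp (by norm_num)
    obtain ⟨b, hb, hb3⟩ := regular_large (G := γ.ker) (T.subgroupOf γ.ker) a hreg' hsmall
    have hk2' : k = 2 := le_antisymm hk hk2
    have h1 : CLe γ.range 1 := by
      have hd : Nat.card γ.range ∣ 2 := by
        have h2 := card_subgroup_dvd_card γ.range
        rwa [Nat.card_perm, ← hkdef, hk2'] at h2
      have := CLe.of_card_dvd two_ne_zero hd
      rwa [ArithmeticFunction.cardFactors_apply_prime Nat.prime_two] at this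
    refine (CLe.of_range γ hb h1).mono ?_
    rw [Nat.le_div_iff_mul_le (by norm_num), ← hn]
    omega

end Socle

/-- The intransitive case. -/
theorem intransitive_case {n : ℕ} (hyp : Hyp n) {G Ωs : Type} [Group G] [Finite G] [MulAction G Ωs]
    [Finite Ωs] [FaithfulSMul G Ωs] (hn : Nat.card Ωs = n)
    (hr : 2 ≤ Nat.card (orbitRel.Quotient G Ωs)) : CLe G (bnd G Ωs) := by
  classical
  obtain ⟨a⟩ : Nonempty Ωs := by
    obtain ⟨q⟩ : Nonempty (orbitRel.Quotient G Ωs) := (Nat.card_pos_iff.1 (by omega)).1
    exact Quotient.inductionOn' q fun x => ⟨x⟩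
  set Δ := orbit G a with hΔ
  set Δ' := {x : Ωs // x ∉ Δ}
  have hinv : ∀ (g : G) (x : Ωs), g • x ∈ Δ ↔ x ∈ Δ := fun g x => by
    constructor
    · intro hx
      have := mem_orbit_of_mem_orbit g⁻¹ hx
      rwa [inv_smul_smul] at this
    · exact fun hx => mem_orbit_of_mem_orbit g hx
  let f : G →* Equiv.Perm Δ :=
    { toFun := fun g =>
        { toFun := fun x => ⟨g • (x : Ωs), (hinv g x).2 x.2⟩
          invFun := fun x => ⟨g⁻¹ • (x : Ωs), (hinv g⁻¹ x).2 x.2⟩
          left_inv := fun x => Subtype.ext (inv_smul_smul _ _)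
          right_inv := fun x => Subtype.ext (smul_inv_smul _ _) }
      map_one' := Equiv.ext fun x => Subtype.ext (one_smul _ _)
      map_mul' := fun g g' => Equiv.ext fun x => Subtype.ext (mul_smul _ _ _) }
  let f' : f.ker →* Equiv.Perm Δ' :=
    { toFun := fun g =>
        { toFun := fun x => ⟨(g : G) • x.1, fun h => x.2 ((hinv _ _).1 h)⟩
          invFun := fun x => ⟨(g : G)⁻¹ • x.1, fun h => x.2 ((hinv _ _).1 h)⟩
          left_inv := fun x => Subtype.ext (inv_smul_smul _ _)
          right_inv := fun x => Subtype.ext (smul_inv_smul _ _) }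
      map_one' := Equiv.ext fun x => Subtype.ext (one_smul _ _)
      map_mul' := fun g g' => Equiv.ext fun x => Subtype.ext (mul_smul _ _ _) }
  have hf' : Function.Injective f' := by
    rw [injective_iff_map_eq_one]
    intro g hg
    refine Subtype.ext (eq_of_smul_eq_smul (α := Ωs) fun x => ?_)
    show (g : G) • x = (1 : G) • x
    rw [one_smul]
    by_cases hx : x ∈ Δ
    · exact congrArg Subtype.val (DFunLike.congr_fun (MonoidHom.mem_ker.1 g.2) (⟨x, hx⟩ : Δ))
    · exact congrArg Subtype.val (DFunLike.congr_fun hg (⟨x, hx⟩ : Δ'))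
  have hsplit : Nat.card Δ + Nat.card Δ' = n := by
    rw [← hn, ← Nat.card_sum]
    exact Nat.card_congr (Equiv.sumCompl fun x => x ∈ Δ)
  haveI : Nonempty Δ := ⟨⟨a, mem_orbit_self a⟩⟩
  haveI : Nonempty Δ' := by
    by_contra h
    rw [not_nonempty_iff] at h
    have hsub : Subsingleton (orbitRel.Quotient G Ωs) := by
      refine ⟨fun q q' => Quotient.inductionOn₂' q q' fun x y => ?_⟩
      have hx : x ∈ Δ := by by_contra hx; exact h.false ⟨x, hx⟩
      have hy : y ∈ Δ := by by_contra hy; exact h.false ⟨y, hy⟩
      refine Quotient.sound' ?_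
      show (orbitRel G Ωs) x y
      rw [orbitRel_apply, orbit_eq_iff.2 hy]
      exact hx
    have := Finite.card_le_one_iff_subsingleton.2 hsub
    omega
  have hΔpos : 0 < Nat.card Δ := Nat.card_pos
  have hΔ'pos : 0 < Nat.card Δ' := Nat.card_pos
  have h1 := hyp.range_le f (by omega)
  have h2 := hyp f'.range Δ' (by omega)
  have h3 : CLe f.ker (bnd f'.range Δ') := by
    refine (h2.congr (MonoidHom.ofInjective (f := toPermHom f'.range Δ') ?_).symm).congr
      (MonoidHom.ofInjective hf').symm
    intro x y hxy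
    exact Subtype.ext hxy
  -- orbit count
  have hcount : Nat.card (orbitRel.Quotient G Ωs) ≤ Nat.card (orbitRel.Quotient f'.range Δ') + 1 := by
    rw [← Finite.card_option]
    refine Nat.card_le_card_of_surjective
      (fun o => o.elim (Quotient.mk'' a : orbitRel.Quotient G Ωs)
        (Quotient.lift (fun x : Δ' => (Quotient.mk'' x.1 : orbitRel.Quotient G Ωs)) fun x y hxy => ?_)) ?_
    · obtain ⟨⟨_, g, rfl⟩, hgy⟩ := hxy
      refine Quotient.sound' ?_
      show (orbitRel G Ωs) x.1 y.1
      rw [orbitRel_apply]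
      exact ⟨g, congrArg Subtype.val hgy⟩
    · intro q
      induction q using Quotient.inductionOn' with
      | h x =>
        by_cases hx : x ∈ Δ
        · refine ⟨none, Quotient.sound' ?_⟩
          show (orbitRel G Ωs) a x
          rw [orbitRel_apply]
          exact mem_orbit_symm.1 hx
        · exact ⟨some (Quotient.mk'' ⟨x, hx⟩), rfl⟩
  refine (CLe.of_range f h3 h1).mono ?_
  unfold bnd
  rw [hn]
  have h5 : Nat.card (orbitRel.Quotient f'.range Δ') ≤ Nat.card Δ' :=
    Nat.card_le_card_of_surjective _ Quotient.mk''_surjective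
  omega

/-- The primitive case. -/
theorem primitive_case {n : ℕ} (hyp : Hyp n) {G Ωs : Type} [Group G] [Finite G] [MulAction G Ωs]
    [Finite Ωs] [FaithfulSMul G Ωs] (hn : Nat.card Ωs = n) (hn2 : 2 ≤ n) [IsPreprimitive G Ωs] :
    CLe G (4 * (n - 1) / 3) := by
  classical
  haveI : Nontrivial Ωs := Finite.one_lt_card_iff_nontrivial.1 (by omega)
  obtain ⟨a⟩ : Nonempty Ωs := inferInstance
  have hGtop : (⊤ : Subgroup G) ≠ ⊥ := fun h => by
    obtain ⟨b, hb⟩ := exists_ne a
    obtain ⟨g, hg⟩ := exists_smul_eq G a b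
    have : g ∈ (⊥ : Subgroup G) := h ▸ mem_top g
    rw [mem_bot] at this
    rw [this, one_smul] at hg
    exact hb hg.symm
  obtain ⟨N, hN, hN1, -, hmin⟩ := CfsgLib.Solvable.exists_minimal_normal_le hGtop
  haveI := hN
  haveI := CfsgLib.PermBasic.isPretransitive_of_normal (α := Ωs) N hN1
  by_cases hsimple : IsSimpleGroup N
  · -- simple minimal normal subgroup: use the stabilizer
    set Δ := {x : Ωs // x ≠ a}
    haveI : Nonempty Δ := by
      obtain ⟨b, hb⟩ := exists_ne a
      exact ⟨⟨b, hb⟩⟩
    let f : stabilizer G a →* Equiv.Perm Δ :=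
      { toFun := fun g =>
          { toFun := fun x => ⟨(g : G) • x.1, fun h => x.2 (by
              have := congrArg (fun y => (g : G)⁻¹ • y) h
              rwa [inv_smul_smul, inv_smul_eq_iff.2 (mem_stabilizer_iff.1 g.2).symm] at this)⟩
            invFun := fun x => ⟨(g : G)⁻¹ • x.1, fun h => x.2 (by
              rw [inv_smul_eq_iff, mem_stabilizer_iff.1 g.2] at h; exact h)⟩
            left_inv := fun x => Subtype.ext (inv_smul_smul _ _)
            right_inv := fun x => Subtype.ext (smul_inv_smul _ _) }
        map_one' := Equiv.ext fun x => Subtype.ext (one_smul _ _)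
        map_mul' := fun g g' => Equiv.ext fun x => Subtype.ext (mul_smul _ _ _) }
    have hcardΔ : Nat.card Δ = n - 1 := by
      have h1 := Set.ncard_compl ({a} : Set Ωs)
      rw [Set.ncard_singleton, hn] at h1
      rw [← h1, ← Nat.card_coe_set_eq]
      rfl
    have h1 := hyp.range_le f (by rw [hcardΔ]; omega)
    rw [hcardΔ] at h1
    have hf : Function.Injective f := by
      rw [injective_iff_map_eq_one]
      intro g hg
      refine Subtype.ext (eq_of_smul_eq_smul (α := Ωs) fun x => ?_)
      show (g : G) • x = (1 : G) • x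
      rw [one_smul]
      by_cases hx : x = a
      · rw [hx]; exact g.2
      · exact congrArg Subtype.val (DFunLike.congr_fun hg (⟨x, hx⟩ : Δ))
    have h2 : CLe (G ⧸ N) (4 * (n - 1 - 1) / 3) := by
      refine (h1.congr (MonoidHom.ofInjective hf).symm).of_surjective
        ((QuotientGroup.mk' N).comp (stabilizer G a).subtype) ?_
      intro q
      obtain ⟨g, rfl⟩ := QuotientGroup.mk'_surjective N q
      obtain ⟨⟨u, hu⟩, hua⟩ := exists_smul_eq N a (g • a)
      have hua' : u • a = g • a := hua
      refine ⟨⟨u⁻¹ * g, by rw [mem_stabilizer_iff, mul_smul, ← hua', inv_smul_smul]⟩, ?_⟩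
      show QuotientGroup.mk' N (u⁻¹ * g) = _
      rw [map_mul, map_inv, QuotientGroup.mk'_apply, QuotientGroup.mk'_apply,
        (QuotientGroup.eq_one_iff u).2 hu, inv_one, one_mul]
    refine (CLe.extension' N (CLe.of_isSimple) h2).mono ?_
    omega
  by_cases hab : IsMulCommutative N
  · -- abelian: regular of prime power order
    have hsol : Group.IsSolvable N := by
      haveI := hab
      exact Group.isSolvable_of_comm fun x y => mul_comm' x y
    obtain ⟨-, p, hp, -, hpN⟩ := CfsgLib.Solvable.minimal_normal_elementary hN1 hmin hsol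
    haveI : Fact p.Prime := ⟨hp⟩
    obtain ⟨e, he⟩ := IsPGroup.iff_card.1 hpN
    have hreg : stabilizer N a = ⊥ := CfsgLib.PermBasic.semiregular_of_le_centralizer N N
      (le_centralizer_iff_isMulCommutative.2 hab) a
    have hNn : Nat.card N = n := by rw [CfsgLib.PermBasic.card_eq_of_regular N a hreg, hn]
    have he2 : 2 ≤ e := by
      by_contra h
      rcases (show e = 0 ∨ e = 1 by omega) with rfl | rfl
      · rw [pow_zero] at he; omega
      · rw [pow_one] at he
        haveI : Fact (Nat.card N).Prime := ⟨by rw [he]; exact hp⟩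
        exact hsimple (isSimpleGroup_of_prime_card (p := Nat.card N) rfl)
    have hcases : 25 ≤ n ∨ n = 4 ∨ n = 8 ∨ n = 9 ∨ n = 16 := by
      by_contra h
      push Not at h
      have hp5 : p < 5 := by
        by_contra hp5
        have h1 : p ^ 2 ≤ p ^ e := Nat.pow_le_pow_right hp.pos he2
        have : 25 ≤ p ^ 2 := by nlinarith
        omega
      have he5 : e < 5 := by
        by_contra he5
        have h1 : 2 ^ 5 ≤ p ^ e := (Nat.pow_le_pow_left hp.two_le 5).trans (Nat.pow_le_pow_right hp.pos (by omega))
        omega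
      interval_cases p
      · exact Nat.not_prime_zero hp
      · exact Nat.not_prime_one hp
      · interval_cases e <;> omega
      · interval_cases e <;> omega
      · exact absurd hp (by norm_num)
    rcases hcases with h | h
    · obtain ⟨b, hb, hb3⟩ := regular_large N a hreg (Or.inl (hn ▸ h))
      exact hb.mono (by omega)
    · obtain ⟨b, hb, hb3⟩ := regular_small N a hreg (hn ▸ h)
      exact hb.mono (by omega)
  obtain ⟨T, hT⟩ := CfsgLib.ExtPrim.exists_isFactor N hN1 hmin hab
  have hTN : T ≠ N := fun h => hsimple (h ▸ hT.simple)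
  by_cases hC : centralizer (N : Set G) = ⊥
  · exact socle_case hyp hn hT hTN hC a
  · -- regular non-abelian
    haveI := CfsgLib.PermBasic.isPretransitive_of_normal (α := Ωs) _ hC
    have hreg : stabilizer N a = ⊥ := CfsgLib.PermBasic.semiregular_of_le_centralizer
      (centralizer (N : Set G)) N (le_centralizer_iff.1 le_rfl) a
    have hNn : Nat.card N = n := by rw [CfsgLib.PermBasic.card_eq_of_regular N a hreg, hn]
    obtain ⟨g, hg⟩ : ∃ g, cj g T ≠ T := by
      by_contra h
      push Not at h
      have hbot : others T = ⊥ := by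
        simp only [others, iSup_eq_bot]
        exact fun g hg => absurd (h g) hg
      exact hTN (by rw [← hT.sup_others, hbot, sup_bot_eq])
    have hT25 : 25 ≤ n := by
      haveI := hT.simple
      obtain ⟨p, hp, hp2⟩ := exists_sq_dvd T hT.nonab
      have h4 : 4 ≤ Nat.card T := (Nat.pow_le_pow_left hp.two_le 2).trans (Nat.le_of_dvd Nat.card_pos hp2)
      -- `T` is neither of order 4 nor less than 5
      have h5 : 5 ≤ Nat.card T := by
        by_contra hlt
        have h4' : Nat.card T = 2 ^ 2 := by omega
        haveI : Fact (Nat.Prime 2) := ⟨Nat.prime_two⟩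
        exact hT.nonab (IsPGroup.isMulCommutative_of_card_eq_prime_sq h4')
      have hle : T ⊔ cj g T ≤ N := sup_le hT.le ((cj_le_others hg).trans hT.others_le)
      have hgo : T ≤ normalizer ((cj g T : Subgroup G) : Set G) :=
        (le_centralizer_iff.1 ((cj_le_others hg).trans hT.others_comm)).trans (centralizer_le_normalizer _)
      have hd : T ⊓ cj g T = ⊥ :=
        eq_bot_iff.2 ((inf_le_inf_left _ (cj_le_others hg)).trans hT.inf_others.le)
      have := card_le_of_le hle
      rw [CfsgLib.Solvable.card_sup_of_disjoint hgo hd, card_cj, hNn] at this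
      nlinarith
    obtain ⟨b, hb, hb3⟩ := regular_large N a hreg (Or.inl (hn ▸ hT25))
    exact hb.mono (by omega)

/-- The main bound. -/
theorem hyp_all : ∀ n, Hyp n := by
  intro n
  induction n with
  | zero => exact fun G Ωs _ _ _ _ h => absurd h (Nat.not_lt_zero _)
  | succ n ih =>
    intro G₀ Ωs _ _ _ _ hlt
    rcases Nat.lt_or_ge (Nat.card Ωs) n with h | h
    · exact ih G₀ Ωs h
    have hn : Nat.card Ωs = n := by omega
    set G := (toPermHom G₀ Ωs).range with hG
    -- the orbits are those of the image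
    have horb : ∀ x y : Ωs, x ∈ orbit G₀ y ↔ x ∈ orbit G y := fun x y => by
      constructor
      · rintro ⟨g, rfl⟩
        exact ⟨⟨toPermHom G₀ Ωs g, ⟨g, rfl⟩⟩, rfl⟩
      · rintro ⟨⟨_, g, rfl⟩, rfl⟩
        exact ⟨g, rfl⟩
    have hQ : Nat.card (orbitRel.Quotient G₀ Ωs) = Nat.card (orbitRel.Quotient G Ωs) :=
      Nat.card_congr (Quotient.congr (Equiv.refl _) fun x y => by
        simp only [Equiv.refl_apply]
        show (orbitRel G₀ Ωs) x y ↔ (orbitRel G Ωs) x y
        rw [orbitRel_apply, orbitRel_apply]
        exact horb x y)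
    suffices hmain : CLe G (bnd G Ωs) by
      rwa [bnd, ← hQ] at hmain
    clear_value G
    clear hG hQ horb
    rcases Nat.lt_or_ge n 2 with hsmall | hbig
    · haveI : Subsingleton Ωs := Finite.card_le_one_iff_subsingleton.1 (by omega)
      exact CLe.of_subsingleton.mono (Nat.zero_le _)
    haveI : Nonempty Ωs := Finite.card_pos_iff.1 (by omega)
    obtain ⟨a⟩ : Nonempty Ωs := inferInstance
    by_cases htr : IsPretransitive G Ωs
    · have hr1 : Nat.card (orbitRel.Quotient G Ωs) = 1 := by
        rw [Nat.card_eq_one_iff_unique]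
        exact ⟨pretransitive_iff_subsingleton_quotient G Ωs |>.1 htr, ⟨Quotient.mk'' a⟩⟩
      rw [bnd, hr1, hn]
      by_cases hprim : IsPreprimitive G Ωs
      · exact primitive_case ih hn hbig
      -- imprimitive
      haveI : Nontrivial Ωs := Finite.one_lt_card_iff_nontrivial.1 (by omega)
      have hco : ¬ IsCoatom (stabilizer G a) := fun hc => hprim
        ((MulAction.isCoatom_stabilizer_iff_preprimitive G a).1 hc)
      have hne : stabilizer G a ≠ ⊤ := fun h => by
        obtain ⟨b, hb⟩ := exists_ne a
        obtain ⟨g, hg⟩ := exists_smul_eq G a b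
        exact hb (hg.symm.trans (mem_stabilizer_iff.1 (h ▸ mem_top g)))
      obtain ⟨H, hlt', hHtop⟩ : ∃ H, stabilizer G a < H ∧ H ≠ ⊤ := by
        by_contra h
        push Not at h
        exact hco ⟨hne, h⟩
      choose γ hγ using fun x : Ωs => exists_smul_eq G a x
      let π : Ωs → G ⧸ H := fun x => (γ x : G ⧸ H)
      have hπ : ∀ (g : G) (x : Ωs), π (g • x) = g • π x := fun g x => by
        show (γ (g • x) : G ⧸ H) = ((g * γ x : G) : G ⧸ H)
        rw [QuotientGroup.eq]
        refine hlt'.le (mem_stabilizer_iff.2 ?_)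
        rw [mul_smul, mul_smul, hγ, inv_smul_eq_iff, hγ]
      have hπs : Function.Surjective π := fun q => by
        obtain ⟨g, rfl⟩ := QuotientGroup.mk_surjective q
        refine ⟨g • a, ?_⟩
        rw [hπ]
        show g • (γ a : G ⧸ H) = (g : G ⧸ H)
        have : (γ a : G ⧸ H) = ((1 : G) : G ⧸ H) := by
          rw [QuotientGroup.eq, mul_one]
          exact inv_mem (hlt'.le (mem_stabilizer_iff.2 (hγ a)))
        rw [this, MulAction.Quotient.smul_coe, smul_eq_mul, mul_one]
      have hidx : H.index < n := by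
        have h1 := index_stabilizer_of_transitive G a
        rw [hn] at h1
        have h2 := relIndex_mul_index hlt'.le
        rw [h1] at h2
        have h3 : (stabilizer G a).relIndex H ≠ 1 := fun h => hlt'.not_ge (relIndex_eq_one.1 h)
        have h4 : (stabilizer G a).relIndex H ≠ 0 := fun h => by rw [h, zero_mul] at h2; omega
        rw [← h2]
        exact (Nat.lt_mul_iff_one_lt_left (Nat.pos_of_ne_zero index_ne_zero_of_finite)).2 (by omega)
      set f := toPermHom G (G ⧸ H) with hf
      have h1 := ih G (G ⧸ H) (by rw [← index_eq_card]; exact hidx)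
      have hH2 : 2 ≤ H.index :=
        (Nat.two_le_iff _).2 ⟨index_ne_zero_of_finite, fun h => hHtop (index_eq_one.1 h)⟩
      -- the kernel has at least as many orbits as there are blocks
      have hK : H.index ≤ Nat.card (orbitRel.Quotient f.ker Ωs) := by
        refine Nat.card_le_card_of_surjective (Quotient.lift π fun x y hxy => ?_)
          (fun q => let ⟨x, hx⟩ := hπs q; ⟨Quotient.mk'' x, hx⟩)
        obtain ⟨⟨k, hk⟩, hky⟩ := hxy
        have hky' : k • y = x := hky
        rw [← hky', hπ]
        exact DFunLike.congr_fun (MonoidHom.mem_ker.1 hk) (π y)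
      have hKbound : CLe f.ker (4 * (n - H.index) / 3) := by
        haveI : FaithfulSMul f.ker Ωs := ⟨fun h => Subtype.ext (eq_of_smul_eq_smul h)⟩
        refine (intransitive_case ih hn (by omega)).mono ?_
        unfold bnd
        rw [hn]
        omega
      have h1' : CLe f.range (4 * (H.index - 1) / 3) :=
        h1.mono (bnd_le.trans (by rw [← index_eq_card]))
      refine (CLe.of_range f hKbound h1').mono ?_
      omega
    · refine intransitive_case ih hn ?_
      by_contra hlt2
      refine htr ((pretransitive_iff_subsingleton_quotient G Ωs).2 ?_)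
      exact Finite.card_le_one_iff_subsingleton.1 (by omega)

end CfsgLib.CompLength
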