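import Cfsg.Agent.CompLength.Regular
import Cfsg.Agent.Perm.MinimalNormal

/-!
The non-abelian socle case of the composition length bound.
-/

set_option autoImplicit false
set_option linter.unusedSectionVars false
set_option linter.style.haveILetI false

namespace CfsgLib.CompLength

open Subgroup MulAction CfsgLib.ExtPrim CfsgLib.MinimalNormal
open scoped ArithmeticFunction.Omega

/-- The bound `4 (n - r) / 3`. -/
noncomputable def bnd (G Ωs : Type) [Group G] [MulAction G Ωs] : ℕ :=
  4 * (Nat.card Ωs - Nat.card (orbitRel.Quotient G Ωs)) / 3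

/-- The induction hypothesis: the bound holds in degree less than `n`. -/
def Hyp (n : ℕ) : Prop :=
  ∀ (G Ωs : Type) [Group G] [Finite G] [MulAction G Ωs] [Finite Ωs],
    Nat.card Ωs < n → CLe (toPermHom G Ωs).range (bnd G Ωs)

theorem bnd_le {G Ωs : Type} [Group G] [MulAction G Ωs] [Finite Ωs] [Nonempty Ωs] :
    bnd G Ωs ≤ 4 * (Nat.card Ωs - 1) / 3 := by
  haveI : Nonempty (orbitRel.Quotient G Ωs) := Nonempty.map Quotient.mk'' inferInstance
  have : 0 < Nat.card (orbitRel.Quotient G Ωs) := Nat.card_pos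
  exact Nat.div_le_div_right (by omega)

/-- The consequence of the hypothesis for a permutation representation. -/
theorem Hyp.range_le {n : ℕ} (hyp : Hyp n) {X Ωs : Type} [Group X] [Finite Ωs] [Nonempty Ωs]
    (f : X →* Equiv.Perm Ωs) (h : Nat.card Ωs < n) : CLe f.range (4 * (Nat.card Ωs - 1) / 3) := by
  have h1 := hyp f.range Ωs h
  refine (h1.congr (MonoidHom.ofInjective (f := toPermHom f.range Ωs) ?_).symm).mono bnd_le
  intro a b hab
  exact Subtype.ext hab

/-- A prime whose square divides the order of a non-abelian simple group. -/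
theorem exists_sq_dvd (T : Type) [Group T] [Finite T] [IsSimpleGroup T] (hna : ¬ IsMulCommutative T) :
    ∃ p : ℕ, p.Prime ∧ p ^ 2 ∣ Nat.card T := by
  have h1 : Nat.card T ≠ 1 := (Finite.one_lt_card_iff_nontrivial.2 inferInstance).ne'
  have hp := Nat.minFac_prime h1
  refine ⟨_, hp, ?_⟩
  set p := (Nat.card T).minFac with hpdef
  haveI : Fact p.Prime := ⟨hp⟩
  obtain ⟨P⟩ : Nonempty (Sylow p T) := inferInstance
  obtain ⟨k, hk⟩ := IsPGroup.iff_card.1 P.isPGroup'
  rcases Nat.lt_or_ge k 2 with hk2 | hk2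
  · exfalso
    have hk1 : k = 1 := by
      rcases Nat.lt_or_ge k 1 with h | h
      · exact absurd (eq_bot_of_card_eq _ (by rw [hk, show k = 0 by omega, pow_zero]))
          (P.ne_bot_of_dvd_card (Nat.minFac_dvd _))
      · omega
    rw [hk1, pow_one] at hk
    have hcyc : IsCyclic (P : Subgroup T) := isCyclic_of_prime_card hk
    have hc := MonoidHom.ker_transferSylow_isComplement' P (hcyc.normalizer_le_centralizer hpdef.symm)
    rcases IsSimpleGroup.eq_bot_or_eq_top_of_normal
      (MonoidHom.transferSylow P (hcyc.normalizer_le_centralizer hpdef.symm)).ker inferInstance with h | h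
    · rw [h, isComplement'_bot_left] at hc
      have hcT : IsCyclic T := (MulEquiv.subgroupCongr hc |>.trans Subgroup.topEquiv).isCyclic.1 hcyc
      exact hna ⟨⟨fun a b => by letI := hcT.commGroup; exact mul_comm a b⟩⟩
    · rw [h, isComplement'_top_left] at hc
      rw [hc, card_bot] at hk
      exact hp.one_lt.ne hk
  · exact (pow_dvd_pow p hk2).trans (hk ▸ (P : Subgroup T).card_subgroup_dvd_card)

/-- `p ^ (2 r) ∣ m!` forces `2 r < m`. -/
theorem two_mul_lt_of_pow_dvd {p r m : ℕ} (hp : p.Prime) (hm : m ≠ 0)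
    (h : p ^ (2 * r) ∣ m.factorial) : 2 * r < m := by
  haveI : Fact p.Prime := ⟨hp⟩
  exact lt_of_le_of_lt ((padicValNat_dvd_iff_le (Nat.factorial_ne_zero m)).1 h)
    (padicValNat_factorial_lt_of_ne_zero p hm)

section Action

variable {G Ωs : Type} [Group G] [MulAction G Ωs] {N T : Subgroup G}

/-- An element normalizing `T` maps `T`-orbits to `T`-orbits. -/
theorem smul_orbit_eq {g : G} (hg : ∀ x, x ∈ T ↔ g * x * g⁻¹ ∈ T) (a : Ωs) :
    (fun y => g • y) '' orbit T a = orbit T (g • a) := by
  ext y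
  constructor
  · rintro ⟨_, ⟨⟨t, ht⟩, rfl⟩, rfl⟩
    refine ⟨⟨g * t * g⁻¹, (hg t).1 ht⟩, ?_⟩
    show (g * t * g⁻¹) • g • a = g • t • a
    rw [← mul_smul, ← mul_smul, inv_mul_cancel_right]
  · rintro ⟨⟨t, ht⟩, rfl⟩
    refine ⟨(g⁻¹ * t * g) • a, ⟨⟨g⁻¹ * t * g, (hg _).2 ?_⟩, rfl⟩, ?_⟩
    · rwa [show g * (g⁻¹ * t * g) * g⁻¹ = t by group]
    · show g • (g⁻¹ * t * g) • a = t • g • a
      rw [← mul_smul, ← mul_smul, show g * (g⁻¹ * t * g) = t * g by group]

theorem card_orbit_smul {g : G} (hg : ∀ x, x ∈ T ↔ g * x * g⁻¹ ∈ T) (a : Ωs) :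
    (orbit T (g • a)).ncard = (orbit T a).ncard := by
  rw [← smul_orbit_eq hg a, Set.ncard_image_of_injective _ (MulAction.injective g)]

theorem conj_iff_of_isFactor (h : IsFactor N T) {g : G} (hg : g ∈ N) (x : G) :
    x ∈ T ↔ g * x * g⁻¹ ∈ T :=
  ⟨h.conj_mem g hg x, fun h' => by simpa [mul_assoc] using h.conj_mem g⁻¹ (inv_mem hg) _ h'⟩

/-- A subgroup of a simple factor fixing an orbit pointwise is trivial. -/
theorem eq_one_of_fix_orbit [FaithfulSMul G Ωs] [N.Normal] [IsPretransitive N Ωs] (h : IsFactor N T)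
    {a : Ωs} {t : G} (ht : t ∈ T) (hfix : ∀ y ∈ orbit T a, t • y = y) : t = 1 := by
  let K : Subgroup T :=
    { carrier := {u | ∀ y ∈ orbit T a, (u : G) • y = y}
      one_mem' := fun y _ => one_smul _ y
      mul_mem' := fun {u v} hu hv y hy => by
        show ((u : G) * (v : G)) • y = y
        rw [mul_smul, hv y hy, hu y hy]
      inv_mem' := fun {u} hu y hy => by
        show (u : G)⁻¹ • y = y
        rw [inv_smul_eq_iff, hu y hy] }
  have hK : K.Normal := ⟨fun u hu v y hy => by
    show ((v : G) * (u : G) * (v : G)⁻¹) • y = y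
    rw [mul_smul, mul_smul, hu ((v : G)⁻¹ • y) ?_, smul_inv_smul]
    exact mem_orbit_of_mem_orbit (v⁻¹ : T) hy⟩
  haveI := h.simple
  rcases IsSimpleGroup.eq_bot_or_eq_top_of_normal K hK with hb | htop
  · have : (⟨t, ht⟩ : T) ∈ K := hfix
    rw [hb, mem_bot] at this
    exact congrArg Subtype.val this
  · exfalso
    refine h.ne_bot ((eq_bot_iff).2 fun u hu => mem_bot.2 (eq_of_smul_eq_smul (α := Ωs) fun x => ?_))
    obtain ⟨⟨n, hn⟩, rfl⟩ := exists_smul_eq N a x
    show u • n • a = (1 : G) • n • a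
    have h1 : (⟨n⁻¹ * u * n, by simpa using h.conj_mem n⁻¹ (inv_mem hn) u hu⟩ : T) ∈ K := by
      rw [htop]; exact mem_top _
    have h2 : (n⁻¹ * u * n) • a = a := h1 a (mem_orbit_self a)
    rw [mul_smul, mul_smul, inv_smul_eq_iff] at h2
    rw [one_smul, h2]

end Action

section Main

variable {G Ωs : Type} [Group G] [Finite G] [MulAction G Ωs] [Finite Ωs] [FaithfulSMul G Ωs]
  {N T : Subgroup G} [N.Normal] [IsPretransitive N Ωs]

/-- The conjugation action of the normalizer. -/
def autHom (T : Subgroup G) : ↥(normalizer (T : Set G)) →* MulAut T where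
  toFun g :=
    { toFun := fun t => ⟨g * t * (g : G)⁻¹, (mem_normalizer_iff.1 g.2 t).1 t.2⟩
      invFun := fun t => ⟨(g : G)⁻¹ * t * g, by
        refine (mem_normalizer_iff.1 g.2 _).2 ?_
        rw [show (g : G) * ((g : G)⁻¹ * t * g) * (g : G)⁻¹ = t by group]
        exact t.2⟩
      left_inv := fun t => Subtype.ext (by simp [mul_assoc])
      right_inv := fun t => Subtype.ext (by simp [mul_assoc])
      map_mul' := fun s t => Subtype.ext (by simp [mul_assoc]) }
  map_one' := MulEquiv.ext fun t => Subtype.ext (by simp)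
  map_mul' g h := MulEquiv.ext fun t => Subtype.ext (by simp [mul_assoc])

theorem autHom_apply (g : ↥(normalizer (T : Set G))) (t : T) :
    ((autHom T g t : T) : G) = g * t * (g : G)⁻¹ := rfl

theorem others_le_normalizer (h : IsFactor N T) : others T ≤ normalizer (T : Set G) :=
  h.others_comm.trans (centralizer_le_normalizer _)

/-- The automorphisms induced on a factor are bounded through the action on one of its orbits. -/
theorem aut_bound {n : ℕ} (hyp : Hyp n) (h : IsFactor N T) (a : Ωs) (hs : (orbit T a).ncard < n) :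
    CLe (autHom T).range (4 * ((orbit T a).ncard - 1) / 3) := by
  set Δ := orbit T a with hΔ
  let X : Subgroup ↥(normalizer (T : Set G)) :=
    { carrier := {g | (g : G) • a ∈ Δ}
      one_mem' := by show (1 : G) • a ∈ Δ; rw [one_smul]; exact mem_orbit_self a
      mul_mem' := fun {g g'} hg hg' => by
        show ((g : G) * g') • a ∈ Δ
        obtain ⟨⟨t, ht⟩, hta⟩ := hg'
        have hta' : t • a = (g' : G) • a := hta
        rw [mul_smul, ← hta', hΔ, ← orbit_eq_iff.2 hg, ← smul_orbit_eq (mem_normalizer_iff.1 g.2) a]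
        exact ⟨_, ⟨⟨t, ht⟩, rfl⟩, rfl⟩
      inv_mem' := fun {g} hg => by
        show (g : G)⁻¹ • a ∈ Δ
        have h1 : a ∈ (fun y => (g : G) • y) '' Δ := by
          rw [hΔ, smul_orbit_eq (mem_normalizer_iff.1 g.2) a, orbit_eq_iff.2 hg]
          exact mem_orbit_self a
        obtain ⟨y, hy, hya⟩ := h1
        have hya' : (g : G) • y = a := hya
        rwa [← hya', inv_smul_smul] }
  have hX : ∀ g : X, ∀ y ∈ Δ, ((g : normalizer (T : Set G)) : G) • y ∈ Δ := by
    intro g y hy
    have h1 := smul_orbit_eq (mem_normalizer_iff.1 g.1.2) a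
    rw [orbit_eq_iff.2 g.2] at h1
    exact h1.subset ⟨y, hy, rfl⟩
  let f₁ : X →* Equiv.Perm Δ :=
    { toFun := fun g =>
        { toFun := fun y => ⟨((g : normalizer (T : Set G)) : G) • (y : Ωs), hX g y y.2⟩
          invFun := fun y => ⟨(((g⁻¹ : X) : normalizer (T : Set G)) : G) • (y : Ωs), hX g⁻¹ y y.2⟩
          left_inv := fun y => Subtype.ext (by simp)
          right_inv := fun y => Subtype.ext (by simp) }
      map_one' := Equiv.ext fun y => Subtype.ext (one_smul _ _)
      map_mul' := fun g g' => Equiv.ext fun y => Subtype.ext (mul_smul _ _ _) }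
  let f₂ : X →* (autHom T).range := (autHom T).rangeRestrict.comp X.subtype
  have hsurj : Function.Surjective f₂ := by
    rintro ⟨_, ⟨g, rfl⟩⟩
    obtain ⟨⟨m, hm⟩, hma⟩ := exists_smul_eq N a ((g : G) • a)
    have hma' : m • a = (g : G) • a := hma
    obtain ⟨t, ht, c, hc, rfl⟩ := h.exists_mul hm
    set c' : ↥(normalizer (T : Set G)) := ⟨c, others_le_normalizer h hc⟩
    refine ⟨⟨c'⁻¹ * g, ?_⟩, Subtype.ext ?_⟩
    · show (c⁻¹ * (g : G)) • a ∈ Δ
      rw [mul_smul, ← hma', mul_smul, ← mul_smul c⁻¹ t,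
        show c⁻¹ * t = t * c⁻¹ from ((h.commute ht (inv_mem hc)).eq).symm, mul_smul, inv_smul_smul]
      exact ⟨⟨t, ht⟩, rfl⟩
    · show autHom T (c'⁻¹ * g) = autHom T g
      have : autHom T c'⁻¹ = 1 := MulEquiv.ext fun u => Subtype.ext (by
        show c⁻¹ * (u : G) * c⁻¹⁻¹ = (u : G)
        rw [((h.commute u.2 (inv_mem hc)).eq).symm, mul_inv_cancel_right])
      rw [map_mul, this, one_mul]
  have hker : f₁.ker ≤ f₂.ker := by
    intro g hg
    rw [MonoidHom.mem_ker] at hg ⊢
    refine Subtype.ext (MulEquiv.ext fun u => Subtype.ext ?_)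
    show ((g : normalizer (T : Set G)) : G) * (u : G) * ((g : normalizer (T : Set G)) : G)⁻¹ = (u : G)
    set x : G := ((g : normalizer (T : Set G)) : G)
    have hfix : ∀ y ∈ Δ, x • y = y := fun y hy =>
      congrArg Subtype.val (DFunLike.congr_fun hg (⟨y, hy⟩ : Δ))
    have hxu : x * u * x⁻¹ ∈ T := (mem_normalizer_iff.1 g.1.2 u).1 u.2
    rw [← inv_mul_eq_one]
    refine eq_one_of_fix_orbit (a := a) h (mul_mem (inv_mem hxu) u.2) fun y hy => ?_
    have h1 : x⁻¹ • y = y := by rw [inv_smul_eq_iff, hfix y hy]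
    have h2 : (x * u * x⁻¹) • y = (u : G) • y := by
      rw [mul_smul, mul_smul, h1]
      exact hfix _ (mem_orbit_of_mem_orbit u hy)
    rw [mul_smul, ← h2, inv_smul_smul]
  haveI : Nonempty Δ := ⟨⟨a, mem_orbit_self a⟩⟩
  have h3 := hyp.range_le f₁ (by rwa [Nat.card_coe_set_eq])
  rw [Nat.card_coe_set_eq] at h3
  exact CLe.of_ker_le f₁ f₂ hsurj hker h3

/-- The number of blocks is at least the number of factors, unless there are two regular factors. -/
theorem factor_count (h : IsFactor N T) (hC : centralizer (N : Set G) = ⊥) (a : Ωs) :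
    Nat.card (Set.range fun x : Ωs => orbit T x) * (orbit T a).ncard ≤ Nat.card Ωs ∧
      2 ≤ (orbit T a).ncard ∧
      (Nat.card (factors T) ≤ Nat.card (Set.range fun x : Ωs => orbit T x) ∨
        (Nat.card (factors T) ≤ 2 ∧ ∃ T₂ : Subgroup G, IsFactor N T₂ ∧ T₂ ≠ T ∧ T₂ ∈ factors T ∧
          ∀ U ∈ factors T, IsPretransitive U Ωs)) := by
  classical
  set P := Set.range fun x : Ωs => orbit T x with hP
  have hNne : ∀ x : Ωs, ∃ n ∈ N, n • a = x := fun x => by
    obtain ⟨⟨n, hn⟩, hna⟩ := exists_smul_eq N a x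
    exact ⟨n, hn, hna⟩
  have hsize : ∀ (U : Subgroup G), IsFactor N U → ∀ x y : Ωs, (orbit U x).ncard = (orbit U y).ncard := by
    intro U hU x y
    obtain ⟨⟨n, hn⟩, hna⟩ := exists_smul_eq N x y
    have hna' : n • x = y := hna
    rw [← hna', card_orbit_smul (conj_iff_of_isFactor hU hn)]
  refine ⟨?_, ?_, ?_⟩
  · -- blocks times size
    choose c hc using fun O : P => O.2
    choose n hnN hna using hNne
    rw [← Nat.card_coe_set_eq, ← Nat.card_prod]
    refine Nat.card_le_card_of_injective (fun q : P × orbit T a => n (c q.1) • (q.2 : Ωs)) ?_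
    rintro ⟨O, y⟩ ⟨O', y'⟩ he
    simp only at he
    have hmem : ∀ (O : P) (y : orbit T a), n (c O) • (y : Ωs) ∈ (O : Set Ωs) := fun O y => by
      rw [← hc O]
      show n (c O) • (y : Ωs) ∈ orbit T (c O)
      have := (smul_orbit_eq (conj_iff_of_isFactor h (hnN (c O))) a).subset ⟨y, y.2, rfl⟩
      rwa [hna (c O)] at this
    have hOO : O = O' := by
      refine Subtype.ext ?_
      have h1 := hmem O y
      have h2 := hmem O' y'
      rw [he] at h1
      rw [← hc O] at h1 ⊢
      rw [← hc O'] at h2 ⊢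
      exact (orbit_eq_iff.2 h1).symm.trans (orbit_eq_iff.2 h2)
    subst hOO
    exact Prod.ext rfl (Subtype.ext (MulAction.injective _ he))
  · -- orbits are non-trivial
    by_contra hlt
    refine h.ne_bot (eq_bot_iff.2 fun t ht => mem_bot.2 (eq_one_of_fix_orbit (a := a) h ht fun y hy => ?_))
    have h1 : (orbit T a).ncard = 1 := by
      have h0 : 0 < (orbit T a).ncard := (Set.ncard_pos (Set.toFinite _)).2 ⟨a, mem_orbit_self a⟩
      omega
    obtain ⟨z, hz⟩ := Set.ncard_eq_one.1 h1
    have h2 : t • y ∈ orbit T a := mem_orbit_of_mem_orbit (⟨t, ht⟩ : T) hy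
    rw [hz, Set.mem_singleton_iff] at hy h2
    rw [h2, hy]
  -- the action of `N` on the blocks
  have hNP : ∀ g : N, ∀ O : P, (fun y => (g : G) • y) '' (O : Set Ωs) ∈ P := by
    rintro g ⟨O, x, rfl⟩
    exact ⟨(g : G) • x, (smul_orbit_eq (conj_iff_of_isFactor h g.2) x).symm⟩
  let ρ : N →* Equiv.Perm P :=
    { toFun := fun g =>
        { toFun := fun O => ⟨_, hNP g O⟩
          invFun := fun O => ⟨_, hNP g⁻¹ O⟩
          left_inv := fun O => Subtype.ext (by simp [Set.image_image])
          right_inv := fun O => Subtype.ext (by simp [Set.image_image]) }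
      map_one' := Equiv.ext fun O => Subtype.ext (by simp)
      map_mul' := fun g g' => Equiv.ext fun O => Subtype.ext (by simp [Set.image_image, mul_smul]) }
  have hρ : ∀ (g : N), g ∈ ρ.ker ↔ ∀ x : Ωs, (g : G) • x ∈ orbit T x := by
    intro g
    rw [MonoidHom.mem_ker]
    constructor
    · intro hg x
      have h1 : (fun y => (g : G) • y) '' orbit T x = orbit T x :=
        congrArg Subtype.val (DFunLike.congr_fun hg (⟨_, x, rfl⟩ : P))
      exact h1.subset ⟨x, mem_orbit_self x, rfl⟩
    · intro hg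
      refine Equiv.ext fun O => Subtype.ext ?_
      obtain ⟨x, hx⟩ := O.2
      show (fun y => (g : G) • y) '' (O : Set Ωs) = (O : Set Ωs)
      rw [← hx]
      show (fun y => (g : G) • y) '' orbit T x = orbit T x
      rw [smul_orbit_eq (conj_iff_of_isFactor h g.2) x, orbit_eq_iff]
      exact hg x
  haveI : Fintype (factors T) := Fintype.ofFinite _
  -- the factors trivial on the blocks share the orbits of `T`
  let I : Finset (factors T) := Finset.univ.filter fun U => (U : Subgroup G).subgroupOf N ≤ ρ.ker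
  have hI : ∀ U : factors T, U ∈ I ↔ ∀ u ∈ (U : Subgroup G), ∀ x : Ωs, u • x ∈ orbit T x := by
    intro U
    simp only [I, Finset.mem_filter, Finset.mem_univ, true_and]
    constructor
    · intro hU u hu
      exact (hρ ⟨u, (factors_isFactor h U.2).le hu⟩).1 (hU (mem_subgroupOf.2 hu))
    · intro hU g hg
      exact (hρ g).2 (hU _ (mem_subgroupOf.1 hg))
  have horbU : ∀ U ∈ I, ∀ x : Ωs, orbit (U : Subgroup G) x = orbit T x := by
    intro U hU x
    refine Set.eq_of_subset_of_ncard_le ?_ ?_ (Set.toFinite _)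
    · rintro _ ⟨⟨u, hu⟩, rfl⟩
      exact (hI U).1 hU u hu x
    · obtain ⟨g, hg⟩ := U.2
      have hcj : orbit (U : Subgroup G) (g • x) = (fun y => g • y) '' orbit T x := by
        rw [← hg]
        ext y
        constructor
        · rintro ⟨⟨u, hu⟩, rfl⟩
          refine ⟨(g⁻¹ * u * g) • x, ⟨⟨_, mem_cj.1 hu⟩, rfl⟩, ?_⟩
          show g • (g⁻¹ * u * g) • x = u • g • x
          rw [← mul_smul, ← mul_smul, show g * (g⁻¹ * u * g) = u * g by group]
        · rintro ⟨_, ⟨⟨t, ht⟩, rfl⟩, rfl⟩
          refine ⟨⟨g * t * g⁻¹, conj_mem_cj ht⟩, ?_⟩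
          show (g * t * g⁻¹) • g • x = g • t • x
          rw [← mul_smul, ← mul_smul, inv_mul_cancel_right]
      rw [hsize _ (factors_isFactor h U.2) x (g • x), hcj,
        Set.ncard_image_of_injective _ (MulAction.injective g)]
  have hIcard : I.card ≤ 2 := by
    by_contra hgt
    obtain ⟨U, hU, V, hV, W, hW, hUV, hUW, hVW⟩ := Finset.two_lt_card.1 (by omega : 2 < I.card)
    have hfU := factors_isFactor h U.2
    have comm : ∀ {A B : factors T}, A ≠ B → ∀ {x y : G}, x ∈ (A : Subgroup G) →
        y ∈ (B : Subgroup G) → x * y = y * x := fun hne x y hx hy =>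
      (factors_commute h hne x y hx hy).eq
    refine hfU.nonab ⟨⟨fun u u' => Subtype.ext ?_⟩⟩
    obtain ⟨⟨v, hv⟩, hva⟩ : (u : G) • a ∈ orbit (V : Subgroup G) a := by
      rw [horbU V hV]; exact (hI U).1 hU u u.2 a
    have hva' : v • a = (u : G) • a := hva
    -- `u⁻¹ v` fixes the orbit of `a` pointwise
    have hw : ∀ y ∈ orbit (W : Subgroup G) a, ((u : G)⁻¹ * v) • y = y := by
      rintro _ ⟨⟨w, hw⟩, rfl⟩
      show ((u : G)⁻¹ * v) • w • a = w • a
      rw [← mul_smul, mul_assoc, comm hVW hv hw, ← mul_assoc,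
        comm hUW ((U : Subgroup G).inv_mem u.2) hw, mul_assoc, mul_smul, mul_smul, hva', inv_smul_smul]
    have hT' : ∀ y ∈ orbit (U : Subgroup G) a, ((u : G)⁻¹ * v) • y = y := by
      rw [horbU U hU, ← horbU W hW]; exact hw
    refine mul_inv_eq_one.1 ?_
    rw [Subgroup.coe_mul, Subgroup.coe_mul, _root_.mul_inv_rev, ← mul_assoc]
    refine eq_one_of_fix_orbit (a := a) hfU
      ((U : Subgroup G).mul_mem ((U : Subgroup G).mul_mem ((U : Subgroup G).mul_mem u.2 u'.2)
        ((U : Subgroup G).inv_mem u.2)) ((U : Subgroup G).inv_mem u'.2)) fun y hy => ?_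
    set q := (u : G)⁻¹ * v with hq
    have huq : (u : G) = v * q⁻¹ := by rw [hq]; group
    have hqinv : ∀ z ∈ orbit (U : Subgroup G) a, q⁻¹ • z = z := fun z hz => by
      rw [inv_smul_eq_iff, hT' z hz]
    have hu_act : ∀ z ∈ orbit (U : Subgroup G) a, (u : G) • z = v • z := fun z hz => by
      rw [huq, mul_smul, hqinv z hz]
    have hu'i : (u' : G)⁻¹ • y ∈ orbit (U : Subgroup G) a :=
      mem_orbit_of_mem_orbit (u'⁻¹ : (U : Subgroup G)) hy
    have hui : (u : G)⁻¹ • (u' : G)⁻¹ • y ∈ orbit (U : Subgroup G) a :=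
      mem_orbit_of_mem_orbit (u⁻¹ : (U : Subgroup G)) hu'i
    have hz : (u' : G) • (u : G)⁻¹ • (u' : G)⁻¹ • y ∈ orbit (U : Subgroup G) a := mem_orbit_of_mem_orbit u' hui
    rw [mul_smul, mul_smul, mul_smul, hu_act _ hz, ← mul_smul v,
      comm (Ne.symm hUV) hv u'.2, mul_smul, ← hu_act _ hui, smul_inv_smul, smul_inv_smul]
  -- the other factors embed in the symmetric group on the blocks
  set J : Finset (factors T) := Iᶜ with hJ
  have hsupcard : ∀ s : Finset (factors T),
      Nat.card ↥(⨆ U ∈ s, (U : Subgroup G)) = Nat.card T ^ s.card := by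
    intro s
    induction s using Finset.induction_on with
    | empty => simp
    | insert U s hU ih =>
      have hle : (⨆ V ∈ s, (V : Subgroup G)) ≤ others (U : Subgroup G) := iSup₂_le fun V hV =>
        factors_le_others U.2 V.2 fun e => hU (by rwa [← Subtype.ext e])
      have hfU := factors_isFactor h U.2
      rw [Finset.iSup_insert, CfsgLib.Solvable.card_sup_of_disjoint
        (A := (U : Subgroup G)) (K := ⨆ V ∈ s, (V : Subgroup G))
        ((le_centralizer_iff.1 (hle.trans hfU.others_comm)).trans (centralizer_le_normalizer _))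
        (eq_bot_iff.2 ((inf_le_inf_left _ hle).trans hfU.inf_others.le)), ih, Finset.card_insert_of_notMem hU]
      obtain ⟨g, hg⟩ := U.2
      rw [← hg, card_cj, pow_succ, mul_comm]
  set R : Subgroup G := ⨆ U ∈ J, (U : Subgroup G) with hR
  have hRN : R ≤ N := iSup₂_le fun U _ => (factors_isFactor h U.2).le
  have hinj : Function.Injective (ρ.comp (inclusion hRN)) := by
    rw [injective_iff_map_eq_one]
    intro g hg
    have hgK : (⟨g, hRN g.2⟩ : N) ∈ ρ.ker := hg
    refine Subtype.ext (mem_bot.1 (hC ▸ ?_))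
    have hcomm : ∀ U : factors T, (U : Subgroup G) ≤ centralizer ({(g : G)} : Set G) := by
      intro U
      by_cases hU : U ∈ I
      · have hle : R ≤ others (U : Subgroup G) := iSup₂_le fun V hV =>
          factors_le_others U.2 V.2 fun e => by
            rw [hJ, Finset.mem_compl] at hV
            exact hV (by rwa [Subtype.ext e])
        exact fun x hx => mem_centralizer_singleton_iff.2
          ((factors_isFactor h U.2).commute hx (hle g.2)).eq
      · have hfU := factors_isFactor h U.2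
        intro x hx
        -- the kernel meets `U` trivially
        have hc : x * g * x⁻¹ * (g : G)⁻¹ ∈ (U : Subgroup G) := by
          have := (U : Subgroup G).mul_mem hx (hfU.conj_mem g (hRN g.2) _ ((U : Subgroup G).inv_mem hx))
          simpa [mul_assoc] using this
        haveI := hfU.simple
        rcases IsSimpleGroup.eq_bot_or_eq_top_of_normal
            ((ρ.ker.map N.subtype).subgroupOf (U : Subgroup G)) ⟨fun z hz y => by
              obtain ⟨k, hk, hkz⟩ := mem_subgroupOf.1 hz
              refine mem_subgroupOf.2 ⟨⟨y, hfU.le y.2⟩ * k * ⟨y, hfU.le y.2⟩⁻¹,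
                (MonoidHom.normal_ker ρ).conj_mem k hk _, ?_⟩
              rw [map_mul, map_mul, map_inv, hkz]
              rfl⟩ with hb | htop
        · have hk : x * g * x⁻¹ * (g : G)⁻¹ ∈ ρ.ker.map N.subtype := by
            refine ⟨⟨x, hfU.le hx⟩ * ⟨g, hRN g.2⟩ * ⟨x, hfU.le hx⟩⁻¹ * ⟨g, hRN g.2⟩⁻¹, ?_, rfl⟩
            exact mul_mem ((MonoidHom.normal_ker ρ).conj_mem _ hgK _) (inv_mem hgK)
          have h1 : (⟨_, hc⟩ : (U : Subgroup G)) ∈ (ρ.ker.map N.subtype).subgroupOf (U : Subgroup G) :=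
            mem_subgroupOf.2 hk
          rw [hb, mem_bot] at h1
          have h2 : x * g * x⁻¹ * (g : G)⁻¹ = 1 := congrArg Subtype.val h1
          rw [mul_inv_eq_one, mul_inv_eq_iff_eq_mul] at h2
          exact mem_centralizer_singleton_iff.2 h2
        · exfalso
          refine hU ((hI U).2 fun u hu y => ?_)
          have h1 : (⟨u, hu⟩ : (U : Subgroup G)) ∈ (ρ.ker.map N.subtype).subgroupOf (U : Subgroup G) := by
            rw [htop]; exact mem_top _
          obtain ⟨k, hk, hku⟩ := mem_subgroupOf.1 h1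
          have := (hρ k).1 hk y
          rwa [show (k : G) = u from hku] at this
    refine mem_centralizer_iff.2 fun x hx => ?_
    have hx' : x ∈ ⨆ H : factors T, (H : Subgroup G) := by rw [factors_iSup h]; exact hx
    exact mem_centralizer_singleton_iff.1 (iSup_le hcomm hx')
  have hdvd : Nat.card T ^ J.card ∣ (Nat.card P).factorial := by
    have h1 := Subgroup.card_dvd_of_injective (ρ.comp (inclusion hRN)) hinj
    rwa [hR, hsupcard, Nat.card_perm] at h1
  haveI : Nonempty P := ⟨⟨_, a, rfl⟩⟩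
  haveI := h.simple
  have hk : Nat.card (factors T) = I.card + J.card := by
    rw [Nat.card_eq_fintype_card, hJ, Finset.card_compl]
    have := I.card_le_univ
    omega
  rcases Nat.eq_zero_or_pos J.card with hJ0 | hJ0
  · -- all factors share their orbits
    have hIuniv : I = Finset.univ := by
      rwa [hJ, Finset.card_eq_zero, Finset.compl_eq_empty_iff] at hJ0
    rcases Nat.lt_or_ge 1 (Nat.card (factors T)) with hk1 | hk1
    · refine Or.inr ⟨by omega, ?_⟩
      haveI : Nontrivial (factors T) := Finite.one_lt_card_iff_nontrivial.1 hk1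
      obtain ⟨T₂, hT₂⟩ := exists_ne (⟨T, self_mem_factors T⟩ : factors T)
      refine ⟨T₂, factors_isFactor h T₂.2, fun e => hT₂ (Subtype.ext e), T₂.2, fun U hU => ?_⟩
      -- `N` preserves every orbit of `T`, so there is only one
      have hker : ∀ g ∈ N, ∀ x : Ωs, g • x ∈ orbit T x := by
        intro g hg x
        let S₀ : Subgroup G :=
          { carrier := {g | ∀ x : Ωs, g • x ∈ orbit T x}
            one_mem' := fun x => by rw [one_smul]; exact mem_orbit_self x
            mul_mem' := fun {g g'} h1 h2 x => by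
              rw [mul_smul, ← orbit_eq_iff.2 (h2 x)]; exact h1 _
            inv_mem' := fun {g} h1 x => by
              have := h1 (g⁻¹ • x)
              rw [smul_inv_smul] at this
              rw [orbit_eq_iff.2 this]
              exact mem_orbit_self _ }
        have hle : N ≤ S₀ := by
          rw [← factors_iSup h]
          exact iSup_le fun V v hv => (hI V).1 (hIuniv ▸ Finset.mem_univ V) v hv
        exact hle hg x
      refine ⟨fun x y => ?_⟩
      obtain ⟨⟨g, hg⟩, hgy⟩ := exists_smul_eq N x y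
      have hy : y ∈ orbit T x := by
        have := hker g hg x
        rwa [show g • x = y from hgy] at this
      rw [← horbU ⟨U, hU⟩ (hIuniv ▸ Finset.mem_univ _) x] at hy
      exact hy
    · refine Or.inl (hk1.trans ?_)
      exact Nat.card_pos
  · refine Or.inl ?_
    obtain ⟨p, hp, hp2⟩ := exists_sq_dvd T h.nonab
    have h2 := two_mul_lt_of_pow_dvd hp (Nat.card_pos (α := P)).ne' (r := J.card)
      ((by rw [pow_mul]; exact pow_dvd_pow_of_dvd hp2 _ : p ^ (2 * J.card) ∣ Nat.card T ^ J.card).trans hdvd)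
    omega

end Main

end CfsgLib.CompLength
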