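import Cfsg.Agent.CompLength.Basic
import Cfsg.Agent.Perm.Basic

/-!
Groups with a regular normal subgroup: crude bounds on the composition length from the order of the
automorphism group of that subgroup.
-/

set_option autoImplicit false
set_option linter.unusedSectionVars false
set_option linter.style.haveILetI false

namespace CfsgLib.CompLength

open Subgroup MulAction
open scoped ArithmeticFunction.Omega

universe u

/-- A finite group is generated by at most `Ω` of its order many elements. -/
theorem exists_generators {G : Type u} [Group G] [Finite G] (H : Subgroup G) :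
    ∃ L : List G, L.length ≤ Ω H.index ∧ H ⊔ closure {x | x ∈ L} = ⊤ := by
  suffices h : ∀ n, ∀ H : Subgroup G, H.index = n →
      ∃ L : List G, L.length ≤ Ω n ∧ H ⊔ closure {x | x ∈ L} = ⊤ from h _ H rfl
  intro n
  induction n using Nat.strong_induction_on with
  | _ n ih =>
    intro H hH
    by_cases htop : H = ⊤
    · exact ⟨[], by simp, by rw [htop, top_sup_eq]⟩
    obtain ⟨x, hx⟩ : ∃ x, x ∉ H := by
      by_contra h
      push Not at h
      exact htop ((eq_top_iff' H).2 h)
    set H' := H ⊔ zpowers x with hH'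
    have hne : H.relIndex H' ≠ 1 := fun h => hx (relIndex_eq_one.1 h (mem_sup_right (mem_zpowers x)))
    have hmul : H.relIndex H' * H'.index = n := by rw [relIndex_mul_index le_sup_left, hH]
    have h0 : H.relIndex H' ≠ 0 := fun h => by
      rw [h, zero_mul] at hmul
      exact index_ne_zero_of_finite (hH.trans hmul.symm)
    have h0' : H'.index ≠ 0 := index_ne_zero_of_finite
    have hlt : H'.index < n := by
      rw [← hmul]
      exact (Nat.lt_mul_iff_one_lt_left (Nat.pos_of_ne_zero h0')).2 (by omega)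
    obtain ⟨L, hL, hLtop⟩ := ih _ hlt H' rfl
    refine ⟨x :: L, ?_, ?_⟩
    · rw [← hmul, ArithmeticFunction.cardFactors_mul h0 h0', List.length_cons]
      have := one_le_cardFactors (show 2 ≤ H.relIndex H' by omega)
      omega
    · rw [eq_top_iff, ← hLtop, hH']
      refine sup_le (sup_le le_sup_left ((zpowers_le.2 ?_).trans le_sup_right)) ?_
      · exact subset_closure List.mem_cons_self
      · exact (Subgroup.closure_mono fun y hy => List.mem_cons_of_mem x hy).trans le_sup_right

/-- `|Aut G| ≤ |G| ^ Ω(|G|)`. -/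
theorem card_mulAut_le {G : Type u} [Group G] [Finite G] :
    Nat.card (MulAut G) ≤ Nat.card G ^ Ω (Nat.card G) := by
  obtain ⟨L, hL, hLtop⟩ := exists_generators (⊥ : Subgroup G)
  rw [index_bot] at hL
  rw [bot_sup_eq] at hLtop
  let f : MulAut G → (Fin L.length → G) := fun φ i => φ L[i]
  have hf : Function.Injective f := fun φ ψ h => by
    have : Set.EqOn φ.toMonoidHom ψ.toMonoidHom {x | x ∈ L} := fun x hx => by
      obtain ⟨i, hi, rfl⟩ := List.mem_iff_getElem.1 hx
      exact congrFun h ⟨i, hi⟩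
    exact MulEquiv.toMonoidHom_injective (MonoidHom.eq_of_eqOn_dense hLtop this)
  refine (Nat.card_le_card_of_injective f hf).trans ?_
  rw [Nat.card_fun, Nat.card_fin]
  exact Nat.pow_le_pow_right Nat.card_pos hL

/-- Orbit bound: an element outside a pointwise fixed subgroup. -/
theorem card_le_orbit_mul {N : Type u} [Group N] [Finite N] (A : Subgroup (MulAut N)) (W : Subgroup N)
    (hW : ∀ φ ∈ A, ∀ w ∈ W, φ w = w) {z : N} (hz : z ∉ W) :
    Nat.card A ≤ (Nat.card N - Nat.card W) * Nat.card ↥(A ⊓ stabilizer (MulAut N) z) := by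
  classical
  haveI : Finite (MulAut N) :=
    Finite.of_injective (fun f : MulAut N => (f : N → N)) DFunLike.coe_injective
  have h1 := (stabilizer A z).card_mul_index
  rw [index_stabilizer] at h1
  have e : Nat.card (stabilizer A z) = Nat.card ↥(A ⊓ stabilizer (MulAut N) z) := by
    refine Nat.card_congr
      { toFun := fun a => ⟨((a : A) : MulAut N), (a : A).2, mem_stabilizer_iff.2 (mem_stabilizer_iff.1 a.2)⟩
        invFun := fun a => ⟨⟨a.1, a.2.1⟩, mem_stabilizer_iff.2 (mem_stabilizer_iff.1 a.2.2 : _)⟩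
        left_inv := fun _ => rfl
        right_inv := fun _ => rfl }
  have h2 : (orbit A z).ncard ≤ Nat.card N - Nat.card W := by
    have hsub : orbit A z ⊆ (W : Set N)ᶜ := by
      rintro y ⟨φ, rfl⟩ hy
      have h3 : (φ : MulAut N) ((φ : MulAut N) z) = (φ : MulAut N) z := hW _ φ.2 _ hy
      have h4 : (φ : MulAut N) z = z := (φ : MulAut N).injective h3
      have hy' : (φ : MulAut N) z ∈ W := hy
      exact hz (h4 ▸ hy')
    refine (Set.ncard_le_ncard hsub).trans (le_of_eq ?_)
    rw [Set.ncard_compl, ← Nat.card_coe_set_eq]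
    rfl
  rw [← h1, e, mul_comm]
  exact Nat.mul_le_mul_right _ h2

/-- A group of order 8 has at most 168 automorphisms. -/
theorem card_le_168 {N : Type u} [Group N] (h8 : Nat.card N = 8) (A : Subgroup (MulAut N)) :
    Nat.card A ≤ 168 := by
  haveI : Finite N := Nat.finite_of_card_ne_zero (by omega)
  haveI : Finite (MulAut N) :=
    Finite.of_injective (fun f : MulAut N => (f : N → N)) DFunLike.coe_injective
  have htop : ∀ (B : Subgroup (MulAut N)) (W : Subgroup N), (∀ φ ∈ B, ∀ w ∈ W, φ w = w) →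
      W = ⊤ → Nat.card B ≤ 1 := fun B W hW h => by
    have : B = ⊥ := (eq_bot_iff).2 fun φ hφ => mem_bot.2 (MulEquiv.ext fun w => hW φ hφ w (h ▸ mem_top w))
    rw [this, card_bot]
  have hstep : ∀ (B : Subgroup (MulAut N)) (W : Subgroup N) (z : N), (∀ φ ∈ B, ∀ w ∈ W, φ w = w) →
      ∀ φ ∈ B ⊓ stabilizer (MulAut N) z, ∀ w ∈ W ⊔ zpowers z, φ w = w := by
    intro B W z hW φ hφ w hw
    have hle : W ⊔ zpowers z ≤ φ.toMonoidHom.eqLocus (MonoidHom.id N) :=
      sup_le (fun x hx => hW φ hφ.1 x hx) (zpowers_le.2 (mem_stabilizer_iff.1 hφ.2))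
    exact hle hw
  have hgrow : ∀ (W : Subgroup N) (z : N), z ∉ W → 2 * Nat.card W ≤ Nat.card ↥(W ⊔ zpowers z) := by
    intro W z hz
    obtain ⟨c, hc⟩ := card_dvd_of_le (le_sup_left : W ≤ W ⊔ zpowers z)
    rw [hc, mul_comm]
    refine Nat.mul_le_mul_left _ ?_
    by_contra hlt
    have hc1 : c = 1 := by
      have : 0 < c := Nat.pos_of_ne_zero fun h0 => Nat.card_pos.ne' (by rw [hc, h0, mul_zero])
      omega
    rw [hc1, mul_one] at hc
    exact hz ((eq_of_le_of_card_ge le_sup_left hc.le) ▸ mem_sup_right (mem_zpowers z))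
  have h4 : ∀ (B : Subgroup (MulAut N)) (W : Subgroup N), (∀ φ ∈ B, ∀ w ∈ W, φ w = w) →
      4 ≤ Nat.card W → Nat.card B ≤ 4 := by
    intro B W hW hc
    by_cases h : W = ⊤
    · exact (htop B W hW h).trans (by norm_num)
    obtain ⟨z, hz⟩ : ∃ z, z ∉ W := by by_contra h'; push Not at h'; exact h ((eq_top_iff' W).2 h')
    refine (card_le_orbit_mul B W hW hz).trans ?_
    have h2 := htop _ _ (hstep B W z hW) (eq_top_of_le_card _ (by have := hgrow W z hz; omega))
    exact Nat.mul_le_mul (show Nat.card N - Nat.card W ≤ 4 by omega) h2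
  have h2 : ∀ (B : Subgroup (MulAut N)) (W : Subgroup N), (∀ φ ∈ B, ∀ w ∈ W, φ w = w) →
      2 ≤ Nat.card W → Nat.card B ≤ 24 := by
    intro B W hW hc
    by_cases h : W = ⊤
    · exact (htop B W hW h).trans (by norm_num)
    obtain ⟨z, hz⟩ : ∃ z, z ∉ W := by by_contra h'; push Not at h'; exact h ((eq_top_iff' W).2 h')
    refine (card_le_orbit_mul B W hW hz).trans ?_
    have := h4 _ _ (hstep B W z hW) (by have := hgrow W z hz; omega)
    exact Nat.mul_le_mul (show Nat.card N - Nat.card W ≤ 6 by omega) this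
  obtain ⟨z, hz⟩ : ∃ z : N, z ∉ (⊥ : Subgroup N) := by
    by_contra h'
    push Not at h'
    have : (⊥ : Subgroup N) = ⊤ := (eq_top_iff' _).2 h'
    have hc := congrArg (fun H : Subgroup N => Nat.card H) this
    simp [h8] at hc
  have hW : ∀ φ ∈ A, ∀ w ∈ (⊥ : Subgroup N), φ w = w := fun φ _ w hw => by
    rw [mem_bot.1 hw, map_one]
  refine (card_le_orbit_mul A ⊥ hW hz).trans ?_
  have := h2 _ _ (hstep A ⊥ z hW) (by have := hgrow ⊥ z hz; rwa [card_bot, mul_one] at this)
  rw [card_bot, h8]
  omega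

theorem cardFactors_le_six {d : ℕ} (hd : d ≤ 168) (h : d ∣ 5040) : Ω d ≤ 6 := by
  obtain ⟨e, he⟩ := h
  have hd0 : d ≠ 0 := by rintro rfl; simp at he
  have he0 : e ≠ 0 := by rintro rfl; simp at he
  have hm := ArithmeticFunction.cardFactors_mul hd0 he0
  have h5040 : Ω 5040 = 8 := by
    rw [show 5040 = 2 ^ 4 * 3 ^ 2 * 5 * 7 by norm_num,
      ArithmeticFunction.cardFactors_mul (by norm_num) (by norm_num),
      ArithmeticFunction.cardFactors_mul (by norm_num) (by norm_num),
      ArithmeticFunction.cardFactors_mul (by norm_num) (by norm_num),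
      ArithmeticFunction.cardFactors_apply_prime_pow Nat.prime_two,
      ArithmeticFunction.cardFactors_apply_prime_pow Nat.prime_three,
      ArithmeticFunction.cardFactors_apply_prime (by norm_num),
      ArithmeticFunction.cardFactors_apply_prime (by norm_num)]
  rw [← he, h5040] at hm
  by_contra hc
  have h30 : 30 ≤ e := by nlinarith
  have he1 : 1 ≤ Ω e := one_le_cardFactors (by omega)
  have hep : e.Prime := ArithmeticFunction.cardFactors_eq_one_iff_prime.1 (by omega)
  have hdiv : e ∣ 2 ^ 4 * 3 ^ 2 * 5 * 7 := ⟨d, by linarith⟩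
  rcases (Nat.Prime.dvd_mul hep).1 hdiv with h' | h'
  · rcases (Nat.Prime.dvd_mul hep).1 h' with h'' | h''
    · rcases (Nat.Prime.dvd_mul hep).1 h'' with h3 | h3
      · have := Nat.le_of_dvd (by norm_num) (hep.dvd_of_dvd_pow h3); omega
      · have := Nat.le_of_dvd (by norm_num) (hep.dvd_of_dvd_pow h3); omega
    · have := Nat.le_of_dvd (by norm_num) h''; omega
  · have := Nat.le_of_dvd (by norm_num) h'; omega

variable {G Ωs : Type u} [Group G] [MulAction G Ωs]

/-- A regular normal subgroup: the composition length is bounded by that of the subgroup and that of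
a point stabilizer, which embeds in the automorphism group. -/
theorem regular_data [Finite G] [FaithfulSMul G Ωs] (N : Subgroup G) [N.Normal]
    [IsPretransitive N Ωs] (a : Ωs) (hN : stabilizer N a = ⊥) :
    CLe G (Ω (Nat.card Ωs) + Ω (Nat.card (stabilizer G a))) ∧
      Nat.card G = Nat.card Ωs * Nat.card (stabilizer G a) ∧
      ∃ f : ↥(stabilizer G a) →* MulAut N, Function.Injective f := by
  haveI : IsPretransitive G Ωs := ⟨fun x y => by
    obtain ⟨⟨n, hn⟩, h⟩ := exists_smul_eq N x y
    exact ⟨n, h⟩⟩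
  have hNc : Nat.card N = Nat.card Ωs := CfsgLib.PermBasic.card_eq_of_regular N a hN
  refine ⟨?_, ?_, (MulAut.conjNormal (H := N)).comp (stabilizer G a).subtype, ?_⟩
  · refine CLe.extension' N (hNc ▸ CLe.of_card) ?_
    refine (CLe.of_card (G := stabilizer G a)).of_surjective
      ((QuotientGroup.mk' N).comp (stabilizer G a).subtype) ?_
    intro q
    obtain ⟨g, rfl⟩ := QuotientGroup.mk'_surjective N q
    obtain ⟨⟨n, hn⟩, hna⟩ := exists_smul_eq N a (g • a)
    have hna' : n • a = g • a := hna
    refine ⟨⟨n⁻¹ * g, by rw [mem_stabilizer_iff, mul_smul, ← hna', inv_smul_smul]⟩, ?_⟩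
    show QuotientGroup.mk' N (n⁻¹ * g) = _
    rw [map_mul, map_inv, QuotientGroup.mk'_apply, QuotientGroup.mk'_apply, (QuotientGroup.eq_one_iff n).2 hn, inv_one, one_mul]
  · rw [← (stabilizer G a).card_mul_index, index_stabilizer_of_transitive, mul_comm]
  · rw [injective_iff_map_eq_one]
    rintro ⟨g, hg⟩ h
    refine Subtype.ext (CfsgLib.PermBasic.eq_one_of_commute_of_fix N (fun t ht => ?_) (mem_stabilizer_iff.1 hg))
    have h1 := congrArg (fun φ : MulAut N => (φ ⟨t, ht⟩ : G)) h
    simp only [MonoidHom.comp_apply, MulAut.conjNormal_apply, MulAut.one_apply] at h1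
    exact (mul_inv_eq_iff_eq_mul.1 h1).symm

/-- Numerics for the crude bound. -/
theorem crude_arith {n : ℕ} (hn : 25 ≤ n) :
    3 * (Nat.log 2 n + Nat.log 2 n * (Nat.log 2 n + 1)) + 3 ≤ 4 * (n - 1) := by
  have hL : 2 ^ Nat.log 2 n ≤ n := Nat.pow_log_le_self 2 (by omega)
  have h4 : 4 ≤ Nat.log 2 n := Nat.le_log_of_pow_le (by norm_num) (by omega)
  have key : ∀ L, 5 ≤ L → 3 * (L + L * (L + 1)) + 7 ≤ 4 * 2 ^ L := by
    intro L hL5
    induction L, hL5 using Nat.le_induction with
    | base => norm_num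
    | succ L hL5 ih => rw [pow_succ]; nlinarith
  rcases Nat.eq_or_lt_of_le h4 with h | h
  · rw [← h]; omega
  · have := key _ h
    omega

/-- The bound with a slack of one, for large degree (and a few others). -/
theorem regular_large [Finite G] [FaithfulSMul G Ωs] (N : Subgroup G) [N.Normal]
    [IsPretransitive N Ωs] (a : Ωs) (hN : stabilizer N a = ⊥) (hn : 25 ≤ Nat.card Ωs ∨ Nat.card Ωs = 12 ∨ Nat.card Ωs = 18 ∨ Nat.card Ωs = 20 ∨ Nat.card Ωs = 24) :
    ∃ m, CLe G m ∧ 3 * (m + 1) ≤ 4 * (Nat.card Ωs - 1) := by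
  obtain ⟨hc, -, f, hf⟩ := regular_data N a hN
  refine ⟨_, hc, ?_⟩
  haveI : Finite (MulAut N) :=
    Finite.of_injective (fun f : MulAut N => (f : N → N)) DFunLike.coe_injective
  have hNc : Nat.card N = Nat.card Ωs := CfsgLib.PermBasic.card_eq_of_regular N a hN
  have h1 := (Nat.card_le_card_of_injective f hf).trans card_mulAut_le
  rw [hNc] at h1
  set n := Nat.card Ωs
  set L := Nat.log 2 n with hL
  have h2 : Ω n ≤ L := cardFactors_le_log (by omega)
  have h3 : Ω (Nat.card (stabilizer G a)) ≤ L * (L + 1) := by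
    refine (cardFactors_le_log Nat.card_pos.ne').trans ?_
    have h4 : n ^ Ω n ≤ 2 ^ (L * (L + 1)) := by
      refine (Nat.pow_le_pow_right (by omega) h2).trans ?_
      rw [mul_comm, pow_mul]
      exact Nat.pow_le_pow_left (Nat.lt_pow_succ_log_self (by norm_num) n).le L
    exact (Nat.log_mono_right (h1.trans h4)).trans (Nat.log_pow (by norm_num) _).le
  rcases hn with hn | hn | hn | hn | hn
  · have := crude_arith hn
    rw [← hL] at this
    omega
  all_goals
    have hlog := (cardFactors_le_log (Nat.card_pos (α := stabilizer G a)).ne').trans (Nat.log_mono_right h1)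
    have hΩ : Ω n ≤ (if n = 24 then 4 else 3) := by
      rw [hn]
      first
        | (rw [show (12 : ℕ) = 2 ^ 2 * 3 from rfl, ArithmeticFunction.cardFactors_mul (by norm_num) (by norm_num),
            ArithmeticFunction.cardFactors_apply_prime_pow Nat.prime_two, ArithmeticFunction.cardFactors_apply_prime Nat.prime_three]; norm_num)
        | (rw [show (18 : ℕ) = 3 ^ 2 * 2 from rfl, ArithmeticFunction.cardFactors_mul (by norm_num) (by norm_num),
            ArithmeticFunction.cardFactors_apply_prime_pow Nat.prime_three, ArithmeticFunction.cardFactors_apply_prime Nat.prime_two]; norm_num)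
        | (rw [show (20 : ℕ) = 2 ^ 2 * 5 from rfl, ArithmeticFunction.cardFactors_mul (by norm_num) (by norm_num),
            ArithmeticFunction.cardFactors_apply_prime_pow Nat.prime_two, ArithmeticFunction.cardFactors_apply_prime Nat.prime_five]; norm_num)
        | (rw [show (24 : ℕ) = 2 ^ 3 * 3 from rfl, ArithmeticFunction.cardFactors_mul (by norm_num) (by norm_num),
            ArithmeticFunction.cardFactors_apply_prime_pow Nat.prime_two, ArithmeticFunction.cardFactors_apply_prime Nat.prime_three]; norm_num)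
    rw [hn] at hΩ hlog ⊢
    norm_num at hΩ
    have h5 : Nat.log 2 (12 ^ 3) < 11 ∧ Nat.log 2 (18 ^ 3) < 13 ∧ Nat.log 2 (20 ^ 3) < 13 ∧ Nat.log 2 (24 ^ 4) < 19 :=
      ⟨Nat.log_lt_of_lt_pow (by norm_num) (by norm_num), Nat.log_lt_of_lt_pow (by norm_num) (by norm_num),
        Nat.log_lt_of_lt_pow (by norm_num) (by norm_num), Nat.log_lt_of_lt_pow (by norm_num) (by norm_num)⟩
    have hmono := hlog.trans (Nat.log_mono_right (Nat.pow_le_pow_right (by norm_num) hΩ))
    omega

/-- The bound for small degree. -/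
theorem regular_small [Finite G] [FaithfulSMul G Ωs] (N : Subgroup G) [N.Normal]
    [IsPretransitive N Ωs] (a : Ωs) (hN : stabilizer N a = ⊥)
    (hn : Nat.card Ωs = 4 ∨ Nat.card Ωs = 8 ∨ Nat.card Ωs = 9 ∨ Nat.card Ωs = 16) :
    ∃ m, CLe G m ∧ 3 * m ≤ 4 * (Nat.card Ωs - 1) := by
  obtain ⟨hc, hG, f, hf⟩ := regular_data N a hN
  haveI : Finite Ωs := Nat.finite_of_card_ne_zero (by omega)
  haveI : Finite (MulAut N) :=
    Finite.of_injective (fun f : MulAut N => (f : N → N)) DFunLike.coe_injective
  have hNc : Nat.card N = Nat.card Ωs := CfsgLib.PermBasic.card_eq_of_regular N a hN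
  have h1 := (Nat.card_le_card_of_injective f hf).trans card_mulAut_le
  rw [hNc] at h1
  have hfac : Nat.card (stabilizer G a) ∣ (Nat.card Ωs - 1).factorial := by
    have h2 := Subgroup.card_dvd_of_injective (toPermHom G Ωs) toPerm_injective
    rw [Nat.card_perm, hG] at h2
    rw [← Nat.mul_factorial_pred (show Nat.card Ωs ≠ 0 by omega)] at h2
    exact Nat.dvd_of_mul_dvd_mul_left (by omega) h2
  have hp2 : ∀ k, Ω (2 ^ k) = k := fun k => ArithmeticFunction.cardFactors_apply_prime_pow Nat.prime_two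
  refine ⟨_, hc, ?_⟩
  have hlog := cardFactors_le_log (Nat.card_pos (α := stabilizer G a)).ne'
  rcases hn with h | h | h | h <;> rw [h] at h1 hfac ⊢
  · have : Ω (Nat.card (stabilizer G a)) ≤ Ω 6 := cardFactors_le_of_dvd (by norm_num) hfac
    rw [show (6 : ℕ) = 2 * 3 from rfl, ArithmeticFunction.cardFactors_mul (by norm_num) (by norm_num),
      ArithmeticFunction.cardFactors_apply_prime Nat.prime_two,
      ArithmeticFunction.cardFactors_apply_prime Nat.prime_three] at this
    rw [show (4 : ℕ) = 2 ^ 2 from rfl, hp2]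
    omega
  · have h168 := card_le_168 (hNc.trans h) f.range
    rw [Nat.card_congr (MonoidHom.ofInjective hf).toEquiv.symm] at h168
    have := cardFactors_le_six h168 hfac
    rw [show (8 : ℕ) = 2 ^ 3 from rfl, hp2]
    omega
  · have h9 : Ω 9 = 2 := by
      rw [show (9 : ℕ) = 3 ^ 2 from rfl]
      exact ArithmeticFunction.cardFactors_apply_prime_pow Nat.prime_three
    rw [h9] at h1 ⊢
    have : Nat.log 2 (Nat.card (stabilizer G a)) < 7 := Nat.log_lt_of_lt_pow Nat.card_pos.ne' (by omega)
    omega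
  · rw [show (16 : ℕ) = 2 ^ 4 from rfl, hp2] at h1 ⊢
    rw [← pow_mul] at h1
    have := (Nat.log_mono_right (b := 2) h1).trans (Nat.log_pow (by norm_num) _).le
    omega

end CfsgLib.CompLength
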